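/-
Itô's theorems on products of two abelian subgroups.
-/
import Cfsg.Agent.Grp.Factor
import Cfsg.Agent.Grp.PGroupBasic

set_option autoImplicit false

namespace CL.Grp

open Subgroup Cfsg
open scoped Pointwise commutatorElement

variable {G : Type*} [Group G]

/-- The computation behind Itô's theorem. -/
theorem ito_commute {H A B : Subgroup G} (h : IsFact H A B) [IsMulCommutative A] [IsMulCommutative B]
    {a b a' b' : G} (ha : a ∈ A) (hb : b ∈ B) (ha' : a' ∈ A) (hb' : b' ∈ B) :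
    Commute ⁅a, b⁆ ⁅a', b'⁆ := by
  -- conjugating `[a,b]` by `a'⁻¹` then `b'⁻¹`, or in the other order, gives the same
  obtain ⟨b₁, hb₁, a₁, ha₁, e₁⟩ := h.symm.exists_mul
    (mul_mem (mul_mem (inv_mem (h.1 ha')) (h.2.1 hb)) (h.1 ha'))
  obtain ⟨a₂, ha₂, b₂, hb₂, e₂⟩ := h.exists_mul
    (mul_mem (mul_mem (inv_mem (h.2.1 hb')) (h.1 ha)) (h.2.1 hb'))
  have cA : ∀ x ∈ A, ∀ y ∈ A, x * y = y * x := fun x hx y hy => setLike_mul_comm hx hy
  have cB : ∀ x ∈ B, ∀ y ∈ B, x * y = y * x := fun x hx y hy => setLike_mul_comm hx hy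
  have f1 : a'⁻¹ * ⁅a, b⁆ * a' = ⁅a, b₁⁆ := by
    calc a'⁻¹ * ⁅a, b⁆ * a' = (a'⁻¹ * a * a') * (a'⁻¹ * b * a') * (a'⁻¹ * a * a')⁻¹ * (a'⁻¹ * b * a')⁻¹ := by
          rw [commutatorElement_def]; group
      _ = a * b₁ * (a₁ * a⁻¹) * a₁⁻¹ * b₁⁻¹ := by
          rw [e₁, mul_assoc a'⁻¹, cA a ha a' ha']; group
      _ = ⁅a, b₁⁆ := by rw [cA a₁ ha₁ _ (inv_mem ha), commutatorElement_def]; group
  have f2 : ∀ c ∈ B, b'⁻¹ * ⁅a, c⁆ * b' = ⁅a₂, c⁆ := by
    intro c hc
    calc b'⁻¹ * ⁅a, c⁆ * b' = (b'⁻¹ * a * b') * (b'⁻¹ * c * b') * (b'⁻¹ * a * b')⁻¹ * (b'⁻¹ * c * b')⁻¹ := by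
          rw [commutatorElement_def]; group
      _ = a₂ * (b₂ * c) * b₂⁻¹ * a₂⁻¹ * c⁻¹ := by
          rw [e₂, mul_assoc b'⁻¹ c, cB c hc b' hb']; group
      _ = ⁅a₂, c⁆ := by rw [cB b₂ hb₂ c hc, commutatorElement_def]; group
  have f3 : a'⁻¹ * ⁅a₂, b⁆ * a' = ⁅a₂, b₁⁆ := by
    calc a'⁻¹ * ⁅a₂, b⁆ * a' =
          (a'⁻¹ * a₂ * a') * (a'⁻¹ * b * a') * (a'⁻¹ * a₂ * a')⁻¹ * (a'⁻¹ * b * a')⁻¹ := by
          rw [commutatorElement_def]; group
      _ = a₂ * b₁ * (a₁ * a₂⁻¹) * a₁⁻¹ * b₁⁻¹ := by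
          rw [e₁, mul_assoc a'⁻¹, cA a₂ ha₂ a' ha']; group
      _ = ⁅a₂, b₁⁆ := by rw [cA a₁ ha₁ _ (inv_mem ha₂), commutatorElement_def]; group
  have f4 : b'⁻¹ * (a'⁻¹ * ⁅a, b⁆ * a') * b' = a'⁻¹ * (b'⁻¹ * ⁅a, b⁆ * b') * a' := by
    rw [f1, f2 b₁ hb₁, f2 b hb, f3]
  generalize ⁅a, b⁆ = c at f4
  rw [Commute, SemiconjBy, commutatorElement_def]
  calc c * (a' * b' * a'⁻¹ * b'⁻¹)
      = a' * b' * (b'⁻¹ * (a'⁻¹ * c * a') * b') * a'⁻¹ * b'⁻¹ := by group
    _ = a' * b' * a'⁻¹ * b'⁻¹ * c := by rw [f4]; group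

theorem IsFact.commutator_eq {H A B : Subgroup G} (h : IsFact H A B) [IsMulCommutative A]
    [IsMulCommutative B] : ⁅H, H⁆ = ⁅A, B⁆ := by
  refine le_antisymm (commutator_le.2 fun x hx y hy => ?_) (commutator_mono h.1 h.2.1)
  have hn : H ≤ normalizer ((⁅A, B⁆ : Subgroup G) : Set G) :=
    h.sup_eq ▸ sup_le (normalizer_commutator_ge_left A B) (normalizer_commutator_ge_right A B)
  rw [le_normalizer_iff] at hn
  obtain ⟨a, ha, b, hb, rfl⟩ := h.exists_mul hx
  obtain ⟨a', ha', b', hb', rfl⟩ := h.exists_mul hy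
  have cA : a * a' = a' * a := setLike_mul_comm ha ha'
  have cB : b * b' = b' * b := setLike_mul_comm hb hb'
  have e : ⁅a * b, a' * b'⁆ = (a * ⁅a', b⁆⁻¹ * a⁻¹) * (a' * ⁅a, b'⁆ * a'⁻¹) := by
    simp only [commutatorElement_def]
    calc a * b * (a' * b') * (a * b)⁻¹ * (a' * b')⁻¹
        = a * b * a' * b⁻¹ * (b * b') * b⁻¹ * a⁻¹ * b'⁻¹ * a'⁻¹ := by group
      _ = a * b * a' * b⁻¹ * (a * a')⁻¹ * (a * a') * b' * a⁻¹ * b'⁻¹ * a'⁻¹ := by rw [cB]; group
      _ = a * b * a' * b⁻¹ * (a * a')⁻¹ * (a' * a) * b' * a⁻¹ * b'⁻¹ * a'⁻¹ := by rw [← cA]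
      _ = _ := by group
  rw [e]
  exact mul_mem (hn a (h.1 ha) _ (inv_mem (commutator_mem_commutator ha' hb)))
    (hn a' (h.1 ha') _ (commutator_mem_commutator ha hb'))

/-- **Itô's theorem**: a product of two abelian subgroups is metabelian. -/
theorem IsFact.commutator_commutator_eq_bot {H A B : Subgroup G} (h : IsFact H A B)
    [IsMulCommutative A] [IsMulCommutative B] : ⁅⁅H, H⁆, ⁅H, H⁆⁆ = ⊥ := by
  rw [h.commutator_eq, commutator_eq_bot_iff_le_centralizer, Subgroup.commutator_def, closure_le]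
  rintro _ ⟨a, ha, b, hb, rfl⟩
  rw [SetLike.mem_coe, centralizer_closure]
  rintro _ ⟨a', ha', b', hb', rfl⟩
  exact (ito_commute h ha' hb' ha hb).eq

theorem IsFact.derivedSeries_two_eq_bot {A B : Subgroup G} (h : IsFact ⊤ A B)
    [IsMulCommutative A] [IsMulCommutative B] : derivedSeries G 2 = ⊥ :=
  h.commutator_commutator_eq_bot

private theorem ito_aux1 {A B : Subgroup G} (h : IsFact ⊤ A B) [IsMulCommutative A]
    [IsMulCommutative B] (hA : ∀ N : Subgroup G, N.Normal → N ≤ A → N = ⊥)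
    (hB : ∀ N : Subgroup G, N.Normal → N ≤ B → N = ⊥) {a : G} (ha : a ∈ A)
    (hc : commutator G ≤ centralizer {a}) : a = 1 := by
  have hD : (A ⊔ commutator G).Normal := Normal.of_commutator_le G le_sup_right
  have hZ := hA ((A ⊔ commutator G) ⊓ centralizer ((A ⊔ commutator G : Subgroup G) : Set G))
    inferInstance (by
      rintro z ⟨-, hz⟩
      obtain ⟨x, hx, y, hy, rfl⟩ := h.exists_mul (mem_top z)
      have hy' : y ∈ center G := by
        rw [mem_center_iff]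
        intro g
        obtain ⟨u, hu, v, hv, rfl⟩ := h.exists_mul (mem_top g)
        have e1 : u * (x * y) = x * y * u := hz u (mem_sup_left hu)
        rw [← mul_assoc, setLike_mul_comm hu hx, mul_assoc, mul_assoc, mul_right_inj] at e1
        rw [mul_assoc, setLike_mul_comm hv hy, ← mul_assoc, e1, mul_assoc]
      have := hB (zpowers y) (normal_of_le_center' (zpowers_le.2 hy')) (zpowers_le.2 hy)
      rw [zpowers_eq_bot] at this
      rwa [this, mul_one])
  rw [← mem_bot, ← hZ]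
  refine ⟨mem_sup_left ha, ?_⟩
  have : A ⊔ commutator G ≤ centralizer {a} :=
    sup_le (fun x hx => mem_centralizer_singleton_iff.2 (setLike_mul_comm hx ha)) hc
  exact fun x hx => mem_centralizer_singleton_iff.1 (this hx)

private theorem ito_aux2 [Finite G] {A B : Subgroup G} (h : IsFact ⊤ A B) [IsMulCommutative A]
    [IsMulCommutative B] {p : ℕ} [hp : Fact p.Prime] {P Q R : Subgroup G} (hP : P ≤ A) (hQ : Q ≤ B)
    (hR : IsPGroup p R) (hf : IsFact R P Q) (hV : pCoreOf p (commutator G) ≤ R) {a b : G} (ha : a ∈ P)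
    (hb : b ∈ B) (hv : a * b ∈ pCoreOf p (commutator G)) (hz : ∀ x ∈ R, x * (a * b) = a * b * x) :
    commutator G ≤ centralizer {b} := by
  have hVn : (pCoreOf p (commutator G)).Normal := by
    rw [pCoreOf_eq_inf_of_normal]; infer_instance
  have hN : normalClosure {b} ≤ R := by
    refine (closure_le _).2 fun y hy => ?_
    obtain ⟨c, hc, hy'⟩ := Group.mem_conjugatesOfSet_iff.1 hy
    obtain rfl : c = b := hc
    obtain ⟨g, rfl⟩ := isConj_iff.1 hy'
    obtain ⟨u, hu, v, hv', rfl⟩ := h.exists_mul (mem_top g)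
    have : u * v * c * (u * v)⁻¹ = a⁻¹ * (u * (a * c) * u⁻¹) := by
      rw [mul_assoc u, setLike_mul_comm hv' hb, ← mul_assoc u a, setLike_mul_comm hu (hP ha)]; group
    rw [SetLike.mem_coe, this]
    exact mul_mem (inv_mem (hf.1 ha)) (hV (hVn.conj_mem _ hv u))
  have hbp : b ∈ pCore p G := le_pCore (hR.to_le hN) (subset_normalClosure rfl)
  have hc : IsMulCommutative (commutator G) :=
    (commutator_self_eq_bot_iff).1 h.commutator_commutator_eq_bot
  refine le_of_forall_isPGroup_le fun q hq S hS hSq x hx => ?_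
  have hx' := le_pCoreOf_of_isNilpotent (isNilpotent_of_isMulCommutative hc) hSq hS hx
  rw [mem_centralizer_singleton_iff]
  rcases eq_or_ne q p with rfl | hne
  · obtain ⟨u, hu, v, hv', rfl⟩ := hf.exists_mul (hV hx')
    have e1 := hz u (hf.1 hu)
    rw [← mul_assoc, setLike_mul_comm (hP hu) (hP ha), mul_assoc, mul_assoc, mul_right_inj] at e1
    rw [mul_assoc, setLike_mul_comm (hQ hv') hb, ← mul_assoc, e1, mul_assoc]
  · have := commutator_pCore_eq_bot (G := G) ((Nat.coprime_primes hq.out hp.out).2 hne)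
    rw [commutator_eq_bot_iff_le_centralizer] at this
    exact (this (pCoreOf_le_pCore_of_normal _ hx') b hbp).symm

/-- **Itô**: a nontrivial finite product of two abelian subgroups has a nontrivial normal subgroup inside one of
the factors. -/
theorem IsFact.exists_normal_le_of_isMulCommutative [Finite G] [Nontrivial G] {A B : Subgroup G}
    (h : IsFact ⊤ A B) [IsMulCommutative A] [IsMulCommutative B] :
    ∃ N : Subgroup G, N.Normal ∧ N ≠ ⊥ ∧ (N ≤ A ∨ N ≤ B) := by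
  by_contra hcon
  push Not at hcon
  have hA : ∀ N : Subgroup G, N.Normal → N ≤ A → N = ⊥ := fun N h1 h2 =>
    by_contra fun h3 => (hcon N h1 h3).1 h2
  have hB : ∀ N : Subgroup G, N.Normal → N ≤ B → N = ⊥ := fun N h1 h2 =>
    by_contra fun h3 => (hcon N h1 h3).2 h2
  have hc : IsMulCommutative (commutator G) :=
    (commutator_self_eq_bot_iff).1 h.commutator_commutator_eq_bot
  have hne : commutator G ≠ ⊥ := by
    intro h0
    have h1 := h.sup_eq
    rw [hA A (Normal.of_commutator_le G (h0 ▸ bot_le)) le_rfl,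
      hB B (Normal.of_commutator_le G (h0 ▸ bot_le)) le_rfl, sup_idem] at h1
    exact bot_ne_top h1
  obtain ⟨p, hp, hpd⟩ := Nat.exists_prime_and_dvd (mt card_eq_one.1 hne)
  have := Fact.mk hp
  obtain ⟨P, Q, R, hP, hQ, hR, hf⟩ := h.exists_isSylowIn p
  have hVn : (pCoreOf p (commutator G)).Normal := by
    rw [pCoreOf_eq_inf_of_normal]; infer_instance
  have hV : pCoreOf p (commutator G) ≤ R :=
    hR.le_of_normalized (pCoreOf_isPGroup _ _) le_top le_normalizer_of_normal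
  have hV0 : pCoreOf p (commutator G) ≠ ⊥ := by
    intro h0
    have := not_dvd_relIndex_pCoreOf_of_isNilpotent (isNilpotent_of_isMulCommutative hc) p
    rw [h0, relIndex_bot_left] at this
    exact this hpd
  have hRn := hR.isPGroup.isNilpotent
  have h1 := inf_center_ne_bot (G := R) (N := (pCoreOf p (commutator G)).subgroupOf R)
    (by rwa [Ne, subgroupOf_eq_bot, disjoint_iff, inf_eq_left.2 hV])
  obtain ⟨⟨v, hvV, hvZ⟩, hv1⟩ := (ne_bot_iff_exists_ne_one).1 h1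
  obtain ⟨a, ha, b, hb, e⟩ := hf.exists_mul v.2
  have hz : ∀ x ∈ R, x * (a * b) = a * b * x := fun x hx => by
    rw [← e]; exact congrArg Subtype.val (mem_center_iff.1 hvZ ⟨x, hx⟩)
  have hvV' : a * b ∈ pCoreOf p (commutator G) := e ▸ hvV
  have hab : a * b = b * a := by
    have := hz a (hf.1 ha)
    rwa [mul_assoc, mul_right_inj] at this
  have hb1 := ito_aux1 h.symm hB hA (hQ.le hb)
    (ito_aux2 h hP.le hQ.le hR.isPGroup hf hV ha (hQ.le hb) hvV' hz)
  have ha1 := ito_aux1 h hA hB (hP.le ha)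
    (ito_aux2 h.symm hQ.le hP.le hR.isPGroup hf.symm hV hb (hP.le ha) (hab ▸ hvV') (hab ▸ hz))
  exact hv1 (Subtype.ext (Subtype.ext (by simp [e, ha1, hb1])))

end CL.Grp
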