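/-
Regular orbits of abelian and of extraspecial-like groups acting coprimely on a finite abelian group.
-/
import Cfsg.Agent.Base

set_option autoImplicit false
set_option linter.unusedSectionVars false

open Subgroup
open scoped commutatorElement

namespace CL.Grp.RegOrb

variable {W : Type*} [CommGroup W]

theorem eq_one_of_fixed {s : MulAut W} (hc : ∀ y : W, y ^ orderOf s = 1 → y = 1) {x : W}
    (h : s (x⁻¹ * s x) = x⁻¹ * s x) : x⁻¹ * s x = 1 := by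
  have key : ∀ n : ℕ, (s ^ n) x = x * (x⁻¹ * s x) ^ n := fun n => by
    induction n with
    | zero => simp
    | succ n ih => rw [pow_succ', MulAut.mul_apply, ih, map_mul, map_pow, h, pow_succ', ← mul_assoc, mul_inv_cancel_left]
  have := key (orderOf s)
  rw [pow_orderOf_eq_one, MulAut.one_apply, left_eq_mul] at this
  exact hc _ this

section ind

variable {s : MulAut W} {Z : Subgroup (MulAut W)} (hZ : ∀ e ∈ Z, ∀ x, e x = x → e = 1 ∨ x = 1)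
  (hs : ∀ e ∈ Z, e * s = s * e) (hc : ∀ e ∈ Z, ∀ f ∈ Z, e * f = f * e)
include hZ

theorem ind1 {e f : MulAut W} (he : e ∈ Z) (hf : f ∈ Z) (hne : e ≠ f) {x : W} (h : e x = f x) : x = 1 :=
  (hZ _ (mul_mem (inv_mem hf) he) x (by rw [MulAut.mul_apply, h, MulAut.inv_apply_self])).resolve_left
    fun h1 => hne (inv_mul_eq_one.1 h1).symm

include hs hc

theorem step {e f : MulAut W} (he : e ∈ Z) (hf : f ∈ Z) {x : W} (h : s x = f x) :
    s ((e x)⁻¹ * s x) = f ((e x)⁻¹ * s x) := by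
  rw [map_mul, map_mul, map_inv, map_inv, ← MulAut.mul_apply, ← hs e he, ← MulAut.mul_apply _ f, hc f hf e he,
    MulAut.mul_apply, MulAut.mul_apply, h, ← MulAut.mul_apply _ s f, ← hs f hf, MulAut.mul_apply, h]

theorem ind2 {e₀ e₁ e₂ : MulAut W} (h₀ : e₀ ∈ Z) (h₁ : e₁ ∈ Z) (h₂ : e₂ ∈ Z) (n₁ : e₀ ≠ e₁) (n₂ : e₀ ≠ e₂)
    {x₁ x₂ : W} (a₀ : s (x₁ * x₂) = e₀ (x₁ * x₂)) (a₁ : s x₁ = e₁ x₁) (a₂ : s x₂ = e₂ x₂) : x₁ * x₂ = 1 := by
  have h1 : (e₂ (x₁ * x₂))⁻¹ * s (x₁ * x₂) = (e₂ x₁)⁻¹ * s x₁ := by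
    rw [map_mul, map_mul, a₂, mul_inv_rev, mul_comm (e₂ x₂)⁻¹, mul_mul_mul_comm, inv_mul_cancel, mul_one]
  have h2 := step hZ hs hc h₂ h₀ a₀
  have h3 := step hZ hs hc h₂ h₁ a₁
  rw [← h1] at h3
  have h4 := ind1 hZ h₀ h₁ n₁ (h2.symm.trans h3)
  exact ind1 hZ h₀ h₂ n₂ (a₀.symm.trans (inv_mul_eq_one.1 h4).symm)

theorem ind3 {e₀ e₁ e₂ e₃ : MulAut W} (h₀ : e₀ ∈ Z) (h₁ : e₁ ∈ Z) (h₂ : e₂ ∈ Z) (h₃ : e₃ ∈ Z) (n₁ : e₀ ≠ e₁)
    (n₂ : e₀ ≠ e₂) (n₃ : e₀ ≠ e₃) {x₁ x₂ x₃ : W} (a₀ : s (x₁ * x₂ * x₃) = e₀ (x₁ * x₂ * x₃))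
    (a₁ : s x₁ = e₁ x₁) (a₂ : s x₂ = e₂ x₂) (a₃ : s x₃ = e₃ x₃) : x₁ * x₂ * x₃ = 1 := by
  have h1 : (e₃ (x₁ * x₂ * x₃))⁻¹ * s (x₁ * x₂ * x₃) = (e₃ x₁)⁻¹ * s x₁ * ((e₃ x₂)⁻¹ * s x₂) := by
    simp only [map_mul, a₃, mul_inv_rev]
    rw [mul_comm (e₃ x₃)⁻¹, mul_mul_mul_comm, inv_mul_cancel, mul_one, mul_comm (e₃ x₂)⁻¹, mul_mul_mul_comm]
  have h2 := step hZ hs hc h₃ h₀ a₀
  rw [h1] at h2
  have h4 := h1.trans (ind2 hZ hs hc h₀ h₁ h₂ n₁ n₂ h2 (step hZ hs hc h₃ h₁ a₁) (step hZ hs hc h₃ h₂ a₂))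
  exact ind1 hZ h₀ h₃ n₃ (a₀.symm.trans (inv_mul_eq_one.1 h4).symm)

end ind

/-- A group of automorphisms of coprime order which is abelian, or whose derived subgroup lies in a central
fixed-point-free subgroup of odd order, has a regular orbit. -/
theorem exists_regular [Finite W] (E : Subgroup (MulAut W))
    (hc : ∀ s ∈ E, ∀ y : W, y ^ orderOf s = 1 → y = 1) (Z : Subgroup (MulAut W))
    (hZ : ∀ e ∈ Z, ∀ x, e x = x → e = 1 ∨ x = 1) (hZE : Z ≤ E) (hce : ∀ e ∈ Z, ∀ a ∈ E, e * a = a * e)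
    (h2 : ∀ e ∈ Z, e * e = 1 → e = 1) (hE : ∀ a ∈ E, ∀ b ∈ E, ⁅a, b⁆ ∈ Z) :
    ∃ w : W, ∀ s ∈ E, s w = w → s = 1 := by
  obtain ⟨w, -, hw⟩ := exists_minimalFor_of_wellFoundedLT (fun _ : W => True)
    (fun w => E ⊓ MulAction.stabilizer (MulAut W) w) ⟨1, trivial⟩
  have key : ∀ s ∈ E, s w = w → ∀ u, (∀ g ∈ E, g (w * u) = w * u → g w = w) → s u = u := fun s hs h u hu => by
    have := (hw (j := w * u) trivial fun g hg => ⟨hg.1, hu g hg.1 hg.2⟩) (show s ∈ E ⊓ MulAction.stabilizer (MulAut W) w from ⟨hs, h⟩)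
    have h1 : s (w * u) = w * u := this.2
    rwa [map_mul, h, mul_right_inj] at h1
  have cen : ∀ s ∈ E, s w = w → (∀ a ∈ E, a * s = s * a) → s = 1 := fun s hs h hcen => by
    refine MulEquiv.ext fun x => (inv_mul_eq_one.1 (eq_one_of_fixed (hc s hs) (key s hs h _ fun g hg h1 => ?_))).symm
    have h3 : (x * (g x)⁻¹)⁻¹ * s (x * (g x)⁻¹) = g w * w⁻¹ := by
      rw [map_mul, map_mul, map_inv, ← MulAut.mul_apply _ g s, hcen g hg, MulAut.mul_apply] at h1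
      rw [eq_mul_inv_iff_mul_eq, eq_mul_inv_of_mul_eq h1, map_mul, map_inv]
      simp only [mul_inv_rev, inv_inv, mul_comm, mul_left_comm, mul_assoc]
    have h4 := eq_one_of_fixed (hc s hs) (x := x * (g x)⁻¹) (by
      rw [h3, map_mul, map_inv, h, ← MulAut.mul_apply, ← hcen g hg, MulAut.mul_apply, h])
    rwa [h3, mul_inv_eq_one] at h4
  refine ⟨w, fun s hs h => cen s hs h fun f hf => ?_⟩
  by_contra hne
  have hζ := hE f hf s hs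
  have hζ1 : ⁅f, s⁆ ≠ 1 := fun e => hne (commutatorElement_eq_one_iff_mul_comm.1 e)
  have hw1 : w ≠ 1 := fun e => hζ1 (cen _ (hZE hζ) (by rw [e, map_one]) fun a ha => (hce _ hζ a ha).symm)
  have hs' : ∀ e ∈ Z, e * s = s * e := fun e he => hce e he s hs
  have hc' : ∀ e ∈ Z, ∀ f ∈ Z, e * f = f * e := fun e he f hf => hce e he f (hZE hf)
  have act : ∀ g ∈ E, ∀ e ∈ Z, ∀ x, s x = e x → s (g x) = (⁅g, s⁆⁻¹ * e) (g x) := fun g hg e he x hx => by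
    have : ⁅g, s⁆⁻¹ * e * g = s * g * (s⁻¹ * e) := by rw [mul_assoc, hce e he g hg, commutatorElement_def]; group
    rw [← MulAut.mul_apply _ (_ * e), this, MulAut.mul_apply, MulAut.mul_apply, MulAut.mul_apply, ← hx,
      MulAut.inv_apply_self]
  have hinv : ∀ (e : MulAut W) x, s x = e x → s x⁻¹ = e x⁻¹ := fun e x hx => by rw [map_inv, map_inv, hx]
  have a₀ : s w = (1 : MulAut W) w := h
  have a₁ := act f hf 1 (one_mem _) w a₀
  rw [mul_one] at a₁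
  have hu1 : f w ≠ 1 := fun e => hw1 ((map_eq_one_iff f f.injective).1 e)
  refine hu1 (ind1 hZ (inv_mem hζ) (one_mem _) (inv_ne_one.2 hζ1) (a₁.symm.trans (key s hs h _ fun g hg h1 => ?_)))
  have a₂ := act g hg 1 (one_mem _) w a₀
  have a₃ := act g hg _ (inv_mem hζ) _ a₁
  rw [mul_one] at a₂
  have hc := hE g hg s hs
  rw [map_mul] at h1
  by_cases h3 : ⁅g, s⁆ = 1
  · rw [h3, inv_one] at a₂
    rw [h3, inv_one, one_mul] at a₃
    have h4 : g w * w⁻¹ = f w * (g (f w))⁻¹ := by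
      rw [mul_inv_eq_iff_eq_mul, mul_right_comm, eq_mul_inv_iff_mul_eq, h1, mul_comm]
    refine mul_inv_eq_one.1 (ind1 hZ (inv_mem hζ) (one_mem _) (inv_ne_one.2 hζ1) ?_)
    rw [← (show s (g w * w⁻¹) = (1 : MulAut W) (g w * w⁻¹) by rw [map_mul, map_mul, a₂, hinv _ _ a₀]), h4,
      map_mul, map_mul, a₁, hinv _ _ a₃]
  exfalso
  by_cases h4 : ⁅g, s⁆ = ⁅f, s⁆
  · have h5 : w * f w * (g w)⁻¹ = g (f w) := by rw [← h1, mul_inv_cancel_comm]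
    rw [h4] at a₂ a₃
    have := ind3 hZ hs' hc' (mul_mem (inv_mem hζ) (inv_mem hζ)) (one_mem _) (inv_mem hζ) (inv_mem hζ)
      (fun e => inv_ne_one.2 hζ1 (h2 _ (inv_mem hζ) e)) (fun e => inv_ne_one.2 hζ1 (mul_eq_left.1 e)) (fun e => inv_ne_one.2 hζ1 (mul_eq_left.1 e))
      (h5 ▸ a₃) a₀ a₁ (hinv _ _ a₂)
    exact hu1 ((map_eq_one_iff g g.injective).1 (h5 ▸ this))
  · have h5 : g w * g (f w) * w⁻¹ = f w := by rw [h1, mul_inv_cancel_comm]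
    have := ind3 hZ hs' hc' (inv_mem hζ) (inv_mem hc) (mul_mem (inv_mem hc) (inv_mem hζ)) (one_mem _)
      (fun e => h4 (inv_injective e).symm) (fun e => inv_ne_one.2 h3 (mul_eq_right.1 e.symm)) (inv_ne_one.2 hζ1)
      (by rw [h5]; exact a₁) a₂ a₃ (hinv _ _ a₀)
    exact hu1 (h5 ▸ this)

theorem exists_regular_comm [Finite W] (E : Subgroup (MulAut W))
    (hc : ∀ s ∈ E, ∀ y : W, y ^ orderOf s = 1 → y = 1) (hE : ∀ a ∈ E, ∀ b ∈ E, a * b = b * a) :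
    ∃ w : W, ∀ s ∈ E, s w = w → s = 1 :=
  exists_regular E hc ⊥ (fun _ he _ _ => Or.inl he) bot_le (fun e he a _ => by rw [mem_bot.1 he, one_mul, mul_one])
    (fun _ he _ => he) fun a ha b hb => commutatorElement_eq_one_iff_mul_comm.2 (hE a ha b hb)

end CL.Grp.RegOrb
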