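/-
Homogeneous components of an abelian normal subgroup acting on a finite abelian group, and the theorem of
Isaacs–Navarro–Wolf: an element of a normal `p`-subgroup (`p` odd) which fixes a member of each orbit acts trivially.
-/
import Cfsg.Agent.Grp.RegOrbit
import Cfsg.Agent.Grp.Action
import Cfsg.Agent.Grp.MinNormal
import Cfsg.Agent.Grp.Subnormal
import Cfsg.Agent.Blk.FongP
import Cfsg.Agent.Grp.ExtraHall
import Cfsg.Agent.Grp.FrobCompl

set_option autoImplicit false
set_option linter.unusedSectionVars false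

open Subgroup Cfsg
open scoped commutatorElement Pointwise

namespace CL.Grp.Homog

universe u

section comp

variable {H V : Type*} [Group H] [CommGroup V] [MulDistribMulAction H V]

variable (V) in
/-- Fixed points of a subgroup. -/
def Fx (K : Subgroup H) : Subgroup V where
  carrier := {v | ∀ k ∈ K, k • v = v}
  mul_mem' ha hb k hk := by rw [smul_mul', ha k hk, hb k hk]
  one_mem' k _ := smul_one k
  inv_mem' ha k hk := by rw [smul_inv', ha k hk]

theorem smul_mem_Fx {K : Subgroup H} {v : V} (hv : v ∈ Fx V K) (g : H) : g • v ∈ Fx V (MulAut.conj g • K) :=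
  fun k hk => by
    have := hv _ ((mem_conj_smul_iff g k K).1 hk)
    rwa [mul_smul, mul_smul, inv_smul_eq_iff] at this

theorem smul_ne_one {v : V} (hv : v ≠ 1) (g : H) : g • v ≠ 1 := fun e =>
  hv (by rw [← inv_smul_smul g v, e, smul_one])

theorem Fx_conj_ne_bot {K : Subgroup H} (h : Fx V K ≠ ⊥) (g : H) : Fx V (MulAut.conj g • K) ≠ ⊥ := by
  obtain ⟨⟨v, hv⟩, h1⟩ := ne_bot_iff_exists_ne_one.1 h
  exact ne_bot_iff_exists_ne_one.2 ⟨⟨_, smul_mem_Fx hv g⟩, fun e =>
    smul_ne_one (fun e' => h1 (Subtype.ext e')) g (congrArg Subtype.val e)⟩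

variable (V) in
/-- The maximal subgroups of `A` with nontrivial fixed points. -/
def Om (A : Subgroup H) : Type _ := {K : Subgroup H // Maximal (fun K => K ≤ A ∧ Fx V K ≠ ⊥) K}

variable {A : Subgroup H} [hA : A.Normal]

instance [Finite H] : Finite (Om V A) := Subtype.finite

theorem conj_le {K : Subgroup H} (h : K ≤ A) (g : H) : MulAut.conj g • K ≤ A :=
  (conj_smul_le_iff g K A).2 fun x hx => hA.conj_mem x (h hx) g

instance : MulAction H (Om V A) where
  smul g K := ⟨MulAut.conj g • K.1, ⟨conj_le K.2.1.1 g, Fx_conj_ne_bot K.2.1.2 g⟩, fun L hL h => by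
    have := K.2.2 ⟨conj_le hL.1 g⁻¹, Fx_conj_ne_bot hL.2 g⁻¹⟩ (by rwa [map_inv, ← pointwise_smul_subset_iff])
    rwa [map_inv, ← subset_pointwise_smul_iff] at this⟩
  one_smul K := Subtype.ext (show MulAut.conj (1 : H) • K.1 = K.1 by rw [map_one, one_smul])
  mul_smul a b K := Subtype.ext (conj_smul_conj_smul a b K.1).symm

theorem coe_smul (g : H) (K : Om V A) : (g • K).1 = MulAut.conj g • K.1 := rfl

theorem exists_om [Finite H] {K : Subgroup H} (h : K ≤ A) (h1 : Fx V K ≠ ⊥) : ∃ L : Om V A, K ≤ L.1 := by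
  obtain ⟨L, h2, h3⟩ := Finite.exists_le_maximal (p := fun K => K ≤ A ∧ Fx V K ≠ ⊥) ⟨h, h1⟩
  exact ⟨⟨L, h3⟩, h2⟩

theorem mem_of_fix (K : Om V A) {v : V} (hv : v ∈ Fx V K.1) (h1 : v ≠ 1) {k : H} (hk : k ∈ A) (h : k • v = v) :
    k ∈ K.1 := by
  refine K.2.2 (y := A ⊓ MulAction.stabilizer H v) ⟨inf_le_left, ne_bot_iff_exists_ne_one.2
    ⟨⟨v, fun a ha => ha.2⟩, fun e => h1 (congrArg Subtype.val e)⟩⟩ (fun a ha => ⟨K.2.1.1 ha, hv a ha⟩) ⟨hk, h⟩

variable (hc : ∀ a ∈ A, ∀ b ∈ A, a * b = b * a)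
include hc

theorem smul_mem_Fx_of_mem {K : Subgroup H} (hK : K ≤ A) {v : V} (hv : v ∈ Fx V K) {a : H} (ha : a ∈ A) :
    a • v ∈ Fx V K := fun k hk => by rw [← mul_smul, hc k (hK hk) a ha, mul_smul, hv k hk]

theorem smul_om_of_mem (K : Om V A) {a : H} (ha : a ∈ A) : a • K = K := Subtype.ext (Subgroup.ext fun x => by
  rw [coe_smul, mem_conj_smul_iff]
  refine ⟨fun h => ?_, fun h => ?_⟩
  · have h1 : x ∈ A := by simpa [mul_assoc] using hA.conj_mem _ (K.2.1.1 h) a
    rwa [mul_assoc, hc x h1 a ha, inv_mul_cancel_left] at h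
  · rwa [mul_assoc, hc x (K.2.1.1 h) a ha, inv_mul_cancel_left])

theorem indep (s : Finset (Om V A)) : ∀ w : Om V A → V, (∀ K, w K ∈ Fx V K.1) → ∏ K ∈ s, w K = 1 →
    ∀ K ∈ s, w K = 1 := by
  classical
  induction s using Finset.induction_on with
  | empty => simp
  | insert K₀ t h₀ ih =>
    intro w hw h
    have key : ∀ K ∈ t, w K = 1 := fun K hK => by
      by_contra h1
      refine h₀ ((Subtype.ext (K₀.2.eq_of_le K.2.1 fun k hk => mem_of_fix K (hw K) h1 (K₀.2.1.1 hk) ?_) :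
        K₀ = K) ▸ hK)
      refine (inv_mul_eq_one.1 (ih (fun L => (w L)⁻¹ * k • w L) (fun L => mul_mem (inv_mem (hw L))
        (smul_mem_Fx_of_mem hc L.2.1.1 (hw L) (K₀.2.1.1 hk))) ?_ K hK)).symm
      rw [Finset.prod_insert h₀, mul_eq_one_iff_inv_eq] at h
      rw [Finset.prod_mul_distrib, Finset.prod_inv_distrib, ← Finset.smul_prod', ← h, smul_inv', hw K₀ k hk,
        inv_mul_cancel]
    rw [Finset.prod_insert h₀, Finset.prod_eq_one key, mul_one] at h
    simpa [h] using key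

theorem uniq [Fintype (Om V A)] {w : Om V A → V} (hw : ∀ K, w K ∈ Fx V K.1) {g : H}
    (h : g • ∏ K, w K = ∏ K, w K) (K : Om V A) : g • w K = w (g • K) := by
  have := indep hc Finset.univ (fun L => (w L)⁻¹ * g • w (g⁻¹ • L)) (fun L => mul_mem (inv_mem (hw L)) (by
    have := smul_mem_Fx (hw (g⁻¹ • L)) g
    rwa [← coe_smul, smul_inv_smul] at this)) (by
      rw [Finset.prod_mul_distrib, Finset.prod_inv_distrib, ← Finset.smul_prod',
        Fintype.prod_equiv (MulAction.toPerm g⁻¹) (fun L => w (g⁻¹ • L)) w fun _ => rfl, h, inv_mul_cancel])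
    (g • K) (Finset.mem_univ _)
  rw [inv_smul_smul] at this
  exact (inv_mul_eq_one.1 this).symm

omit hc in
theorem iSup_Fx_invariant (g : H) (v : V) (hv : v ∈ ⨆ K : Om V A, Fx V K.1) : g • v ∈ ⨆ K : Om V A, Fx V K.1 := by
  refine Subgroup.iSup_induction _ (C := fun v => g • v ∈ ⨆ K : Om V A, Fx V K.1) hv (fun K x hx => ?_) ?_ ?_
  · exact mem_iSup_of_mem (g • K) (smul_mem_Fx hx g)
  · rw [smul_one]; exact one_mem _
  · intro x y hx hy
    rw [smul_mul']; exact mul_mem hx hy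

end comp

section inw

variable {p : ℕ} [hp : Fact p.Prime]

/-- The statement of the Isaacs–Navarro–Wolf theorem for given data. -/
def Concl (p : ℕ) (V : Type*) {H : Type*} [Group H] [CommGroup V] [MulDistribMulAction H V] (D : Subgroup H) :
    Prop :=
  (∀ d ∈ D, ∃ n, ∀ v : V, d ^ p ^ n • v = v) → ¬ p ∣ Nat.card V → ∀ x ∈ D, (∃ v : V, x • v ≠ v) →
    ∃ v : V, ∀ h : H, (h * x * h⁻¹) • v ≠ v

theorem coprime_of {H V : Type*} [Group H] [CommGroup V] [Finite V] [MulDistribMulAction H V] {d : H} {n : ℕ}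
    (hd : ∀ v : V, d ^ p ^ n • v = v) (hV : ¬ p ∣ Nat.card V) (y : V)
    (h : y ^ orderOf (MulDistribMulAction.toMulAut H V d) = 1) : y = 1 :=
  orderOf_eq_one_iff.1 (Nat.eq_one_of_dvd_coprimes (((Nat.Prime.coprime_iff_not_dvd hp.out).2 hV).pow_left n)
    ((orderOf_dvd_of_pow_eq_one h).trans (orderOf_dvd_of_pow_eq_one (by
      rw [← map_pow]; exact MulEquiv.ext hd))) (orderOf_dvd_natCard y))

theorem concl_of_ker {H V : Type u} [Group H] [Finite H] [CommGroup V] [Finite V] [MulDistribMulAction H V]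
    {D : Subgroup H} [hD : D.Normal]
    (ih : ∀ (H : Type u) [Group H] [Finite H] [MulDistribMulAction H V] (E : Subgroup H) [E.Normal],
      Nat.card E < Nat.card D → Concl p V E)
    {c : H} (hc : c ∈ D) (h1 : c ≠ 1) (h2 : ∀ v : V, c • v = v) : Concl p V D := by
  intro h3 h4 x hx ⟨v, hv⟩
  let C := D ⊓ (MulDistribMulAction.toMulAut H V).ker
  let := MulDistribMulAction.compHom V (QuotientGroup.lift C (MulDistribMulAction.toMulAut H V) inf_le_right)
  have := hD.map _ (QuotientGroup.mk'_surjective C)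
  obtain ⟨w, hw⟩ := ih (H ⧸ C) (D.map (QuotientGroup.mk' C)) (by
      rw [← Nat.card_congr (quotientSubgroupOfEquivMap D C).toEquiv, card_eq_relIndex_mul_card
        (inf_le_left : C ≤ D)]
      exact lt_mul_of_one_lt_right (Nat.pos_of_ne_zero index_ne_zero_of_finite) ((one_lt_card_iff_ne_bot _).2
        (ne_bot_iff_exists_ne_one.2 ⟨⟨c, mem_inf.2 ⟨hc, MulEquiv.ext h2⟩⟩, fun e => h1 (congrArg Subtype.val e)⟩))) (by
      rintro _ ⟨d, hd, rfl⟩
      exact h3 d hd) h4 x (mem_map_of_mem _ hx) ⟨v, hv⟩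
  exact ⟨w, fun h => hw h⟩

theorem commutator_mem_center {D : Type*} [Group D] [Finite D] (hD : IsPGroup p D) (h2 : p ≠ 2)
    (h : ∀ A : Subgroup D, A.Characteristic → IsMulCommutative A → IsCyclic A) (a b : D) : ⁅a, b⁆ ∈ center D := by
  obtain ⟨E, hE, h1, h3, h4⟩ := symplectic_type_structure hD h
  have h5 := (h4.resolve_right fun e => h2 e.1).isMulCommutative
  have h6 : ∀ x, ∃ e ∈ E, ∃ c ∈ centralizer (E : Set D), x = e * c := fun x =>
    (mem_sup_iff_of_le_normalizer le_normalizer_of_normal).1 (h1.ge (mem_top x))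
  obtain ⟨e, he, c, hc, rfl⟩ := h6 a
  obtain ⟨e', he', c', hc', rfl⟩ := h6 b
  have h7 : ⁅e * c, e' * c'⁆ = ⁅e, e'⁆ := by
    have i1 := mem_centralizer_iff.1 hc e' he'
    have i2 := mem_centralizer_iff.1 hc' e he
    have i3 : c * c' = c' * c := congrArg Subtype.val (h5.is_comm.comm ⟨c, hc⟩ ⟨c', hc'⟩)
    have i4 := mem_centralizer_iff.1 (mul_mem hc hc') _ (mul_mem he' he)
    have j1 : e * c * (e' * c') = e * e' * (c * c') := by rw [mul_assoc, ← mul_assoc c, ← i1]; group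
    have j2 : e' * c' * (e * c) = e' * e * (c * c') := by rw [mul_assoc, ← mul_assoc c', ← i2, i3]; group
    rw [commutatorElement_def, commutatorElement_def, mul_assoc, ← mul_inv_rev, j1, j2]
    group
  have h8 : ⁅e, e'⁆ ∈ centralizer (E : Set D) := by
    rcases h3 with rfl | h3
    · rw [mem_bot.1 he, commutatorElement_one_left]; exact one_mem _
    · have := h3.1.2.2.le (commutator_mem_commutator (mem_top (⟨e, he⟩ : E)) (mem_top ⟨e', he'⟩))
      exact mem_centralizer_iff.2 fun y hy => congrArg Subtype.val (mem_center_iff.1 this ⟨y, hy⟩)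
  rw [h7, mem_center_iff]
  intro x
  obtain ⟨f, hf, d, hd, rfl⟩ := h6 x
  rw [mul_assoc, ← mem_centralizer_iff.1 hd ⁅e, e'⁆
    (mul_mem (mul_mem (mul_mem he he') (inv_mem he)) (inv_mem he')), ← mul_assoc, ← mul_assoc]
  exact congrArg (· * d) (mem_centralizer_iff.1 h8 f hf)

theorem inw (h2 : p ≠ 2) (n : ℕ) : ∀ (m : ℕ) (H V : Type u) [Group H] [Finite H] [CommGroup V] [Finite V]
    [MulDistribMulAction H V] (D : Subgroup H) [D.Normal], Nat.card D ≤ n → Nat.card V = m → Concl p V D := by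
  induction n using Nat.strong_induction_on with
  | _ n ihn =>
  intro m
  induction m using Nat.strong_induction_on with
  | _ m ihm =>
  intro H V _ _ _ _ _ D hD hn hm
  classical
  by_cases h0 : ∃ c ∈ D, c ≠ 1 ∧ ∀ v : V, c • v = v
  · obtain ⟨c, h3, h4, h5⟩ := h0
    exact concl_of_ker (fun H' _ _ _ E _ hE => ihn _ (hE.trans_le hn) _ H' V E le_rfl rfl) h3 h4 h5
  replace h0 : ∀ c ∈ D, (∀ v : V, c • v = v) → c = 1 := fun c hc h => by
    by_contra h1
    exact h0 ⟨c, hc, h1, h⟩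
  intro hpD hV x hx ⟨v₀, hv₀⟩
  have hv1 : v₀ ≠ 1 := fun e => hv₀ (by rw [e, smul_one])
  by_cases hirr : ∃ W : Subgroup V, (∀ a : H, ∀ y ∈ W, a • y ∈ W) ∧ W ≠ ⊥ ∧ W ≠ ⊤
  · obtain ⟨W, hW, h3, h4⟩ := hirr
    by_cases h5 : ∃ w ∈ W, x • w ≠ w
    · obtain ⟨w, hw, h6⟩ := h5
      let := subAction W hW
      obtain ⟨y, hy⟩ := ihm _ (hm ▸ card_lt_of_ne_top h4) H W D hn rfl
        (fun d hd => (hpD d hd).imp fun k hk y => Subtype.ext (hk y))
        (fun h => hV (h.trans (card_subgroup_dvd_card W))) x hx ⟨⟨w, hw⟩, fun e => h6 (congrArg Subtype.val e)⟩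
      exact ⟨y, fun h e => hy h (Subtype.ext e)⟩
    let := quotAction W hW
    obtain ⟨y, hy⟩ := ihm _ (show Nat.card (V ⧸ W) < m by
        rw [← hm, card_eq_card_quotient_mul_card_subgroup W]
        exact lt_mul_of_one_lt_right Nat.card_pos ((one_lt_card_iff_ne_bot _).2 h3)) H (V ⧸ W) D hn rfl
      (fun d hd => (hpD d hd).imp fun k hk y => by
        obtain ⟨y, rfl⟩ := QuotientGroup.mk_surjective y
        rw [quotAction_smul_mk, hk])
      (fun h => hV (h.trans (card_quotient_dvd_card W))) x hx ⟨v₀, fun e => by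
        rw [quotAction_smul_mk, eq_comm, QuotientGroup.eq] at e
        obtain ⟨k, hk⟩ := hpD x hx
        push Not at h5
        exact hv₀ (inv_mul_eq_one.1 (RegOrb.eq_one_of_fixed (coprime_of hk hV) (h5 _ e))).symm⟩
    obtain ⟨y, rfl⟩ := QuotientGroup.mk_surjective y
    exact ⟨y, fun h e => hy h (by rw [quotAction_smul_mk, e])⟩
  have hDp : IsPGroup p D := fun d => (hpD d d.2).imp fun k hk => Subtype.ext (h0 _ (pow_mem d.2 _) hk)
  by_cases hsr : ∀ A : Subgroup H, A.Normal → A ≤ D → (∀ a ∈ A, ∀ b ∈ A, a * b = b * a) →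
      ∀ a ∈ A, ∀ v : V, a • v = v → a = 1 ∨ v = 1
  · have hch : ∀ A : Subgroup D, A.Characteristic → IsMulCommutative A → ∀ a ∈ A, ∀ v : V, (a : H) • v = v →
        a = 1 ∨ v = 1 := fun A hA hA' a ha v hv =>
      (hsr (A.map D.subtype) inferInstance (map_subtype_le A) (by
        rintro _ ⟨a, ha, rfl⟩ _ ⟨b, hb, rfl⟩
        exact congrArg (fun y : A => ((y : D) : H)) (hA'.is_comm.comm ⟨a, ha⟩ ⟨b, hb⟩)) a
        (mem_map_of_mem D.subtype ha) v hv).imp_left Subtype.ext
    have : Nontrivial V := ⟨v₀, 1, hv1⟩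
    have hcc := commutator_mem_center hDp h2 fun A hA hA' => (pqCyclic_of_fpf_action (A := A) (K := V)
      fun a ha v hv => (hch A hA hA' a a.2 v hv).resolve_left fun e => ha (Subtype.ext e)).isCyclic_of_comm
    let ρ : D →* MulAut V := (MulDistribMulAction.toMulAut H V).comp D.subtype
    obtain ⟨w, hw⟩ := RegOrb.exists_regular ρ.range (by
        rintro _ ⟨d, rfl⟩
        obtain ⟨k, hk⟩ := hpD d d.2
        exact coprime_of hk hV) ((center D).map ρ) (by
        rintro _ ⟨e, he, rfl⟩ v hv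
        exact (hch _ inferInstance inferInstance e he v hv).imp_left fun e' => by rw [e', map_one])
      (map_le_range _ _) (by
        rintro _ ⟨e, he, rfl⟩ _ ⟨a, rfl⟩
        rw [← map_mul, ← map_mul, mem_center_iff.1 he]) (by
        rintro _ ⟨e, -, rfl⟩ h3
        obtain ⟨k, hk⟩ := hDp e
        exact orderOf_eq_one_iff.1 (Nat.eq_one_of_dvd_coprimes
          (((Nat.coprime_primes hp.out Nat.prime_two).2 h2).pow_left k)
          (orderOf_dvd_of_pow_eq_one (by rw [← map_pow, hk, map_one]))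
          (orderOf_dvd_of_pow_eq_one ((pow_two _).trans h3)))) (by
        rintro _ ⟨a, rfl⟩ _ ⟨b, rfl⟩
        rw [← map_commutatorElement]
        exact mem_map_of_mem _ (hcc a b))
    refine ⟨w, fun h e => hv₀ ?_⟩
    have := h0 _ (hD.conj_mem x hx h) (DFunLike.congr_fun (hw _ ⟨⟨_, hD.conj_mem x hx h⟩, rfl⟩ e))
    rw [conj_eq_one_iff] at this
    rw [this, one_smul]
  push Not at hsr
  obtain ⟨A, hA, hAD, hc, a, ha, v, hv, ha1, hv1'⟩ := hsr
  have := Fintype.ofFinite (Om V A)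
  obtain ⟨K₁, hK₁⟩ := exists_om (V := V) (zpowers_le.2 ha) (ne_bot_iff_exists_ne_one.2 ⟨⟨v, fun k hk =>
    (zpowers_le (H := MulAction.stabilizer H v)).2 hv hk⟩, fun e => hv1' (congrArg Subtype.val e)⟩)
  have hu : ∀ K : Om V A, ∃ u ∈ Fx V K.1, u ≠ 1 := fun K => by
    obtain ⟨⟨u, h3⟩, h4⟩ := ne_bot_iff_exists_ne_one.1 K.2.1.2
    exact ⟨u, h3, fun e => h4 (Subtype.ext e)⟩
  choose u hu hu1 using hu
  by_cases hmv : ∃ K : Om V A, x • K ≠ K
  · obtain ⟨K, hK⟩ := hmv
    let : MulDistribMulAction H (Om V A → Multiplicative (ZMod 2)) := arrowMulDistribMulAction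
    have hsm : ∀ (g : H) (f : Om V A → Multiplicative (ZMod 2)) L, (g • f) L = f (g⁻¹ • L) := fun _ _ _ => rfl
    obtain ⟨f, hf⟩ := concl_of_ker (V := Om V A → Multiplicative (ZMod 2))
      (fun H' _ _ _ E _ hE => ihn _ (hE.trans_le hn) _ H' _ E le_rfl rfl) (hAD ha) ha1
      (fun f => funext fun L => by rw [hsm, smul_om_of_mem hc L (inv_mem ha)])
      (fun d hd => (hDp ⟨d, hd⟩).imp fun k hk f => by
        rw [show d ^ p ^ k = 1 from congrArg Subtype.val hk, one_smul]) (fun h => h2 (by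
        rw [Nat.card_fun, Nat.card_congr Multiplicative.toAdd, Nat.card_zmod] at h
        exact (Nat.prime_dvd_prime_iff_eq hp.out Nat.prime_two).1 (hp.out.dvd_of_dvd_pow h))) x hx
      ⟨Pi.mulSingle K (Multiplicative.ofAdd 1), fun e => by
        have := congrFun e (x • K)
        rw [hsm, inv_smul_smul, Pi.mulSingle_eq_same, Pi.mulSingle_eq_of_ne hK] at this
        exact absurd this (by decide)⟩
    refine ⟨∏ L, if f L = 1 then 1 else u L, fun h e => hf h (funext fun L => ?_)⟩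
    have := uniq hc (w := fun L => if f L = 1 then 1 else u L) (fun L => by
      split_ifs
      exacts [one_mem _, hu L]) e ((h * x * h⁻¹)⁻¹ • L)
    rw [smul_inv_smul] at this
    rw [hsm]
    have key : ∀ a b : Multiplicative (ZMod 2), a ≠ 1 → b ≠ 1 → a = b := by decide
    by_cases h3 : f L = 1 <;> by_cases h4 : f ((h * x * h⁻¹)⁻¹ • L) = 1
    · rw [h3, h4]
    · rw [if_pos h3, if_neg h4] at this
      exact (smul_ne_one (hu1 _) _ this).elim
    · rw [if_pos h4, if_neg h3, smul_one] at this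
      exact (hu1 _ this.symm).elim
    · exact key _ _ h4 h3
  push Not at hmv hirr
  have htop := hirr _ (iSup_Fx_invariant (A := A)) fun e =>
    K₁.2.1.2 (le_bot_iff.1 ((le_iSup (fun K : Om V A => Fx V K.1) K₁).trans e.le))
  obtain ⟨K, w, hw, hxw⟩ : ∃ (K : Om V A), ∃ w ∈ Fx V K.1, x • w ≠ w := by
    by_contra! h3
    exact hv₀ ((iSup_le (a := Fx V (zpowers x)) fun K w hw k hk =>
      (zpowers_le (H := MulAction.stabilizer H w)).2 (h3 K w hw) hk) (htop.ge (mem_top v₀)) x (mem_zpowers x))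
  have hKt : Fx V K.1 ≠ ⊤ := fun e => ha1 (h0 a (hAD ha) fun y => by
    by_cases hy : y = 1
    · rw [hy, smul_one]
    have h3 : K₁ = K := by
      by_contra h3
      have := indep hc {K₁, K} (fun L => if L = K₁ then u K₁ else if L = K then (u K₁)⁻¹ else 1) (fun L => by
        split_ifs with h4 h5
        exacts [h4 ▸ hu K₁, h5 ▸ e ▸ mem_top _, one_mem _]) (by simp [Finset.prod_pair h3, Ne.symm h3]) K₁ (by simp)
      exact hu1 K₁ (by simpa using this)
    exact (e.ge (mem_top y) : y ∈ Fx V K.1) a (h3 ▸ hK₁ (mem_zpowers a)))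
  have hinv : ∀ g : MulAction.stabilizer H K, ∀ y ∈ Fx V K.1, g • y ∈ Fx V K.1 := fun g y hy => by
    have := smul_mem_Fx hy (g : H)
    rwa [← coe_smul, g.2] at this
  let := subAction (Fx V K.1) hinv
  obtain ⟨y, hy⟩ := ihm _ (hm ▸ card_lt_of_ne_top hKt) (MulAction.stabilizer H K) (Fx V K.1)
    (D.subgroupOf _) ((Nat.card_le_card_of_injective (fun d : D.subgroupOf (MulAction.stabilizer H K) =>
      (⟨d.1.1, d.2⟩ : D)) fun a b e => Subtype.ext (Subtype.ext (congrArg (fun y : D => (y : H)) e))).trans hn) rfl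
    (fun d hd => (hpD d hd).imp fun k hk y => Subtype.ext (hk y))
    (fun h => hV (h.trans (card_subgroup_dvd_card _))) ⟨x, hmv K⟩ hx ⟨⟨w, hw⟩, fun e => hxw (congrArg Subtype.val e)⟩
  refine ⟨∏ L, if h : ∃ t : H, t • K = L then h.choose • (y : V) else 1, fun g e => ?_⟩
  have h3 : ∃ t : H, t • K = g • K := ⟨g, rfl⟩
  have h4 := uniq hc (w := fun L => if h : ∃ t : H, t • K = L then h.choose • (y : V) else 1) (fun L => by
    split_ifs with h4
    · have := smul_mem_Fx y.2 h4.choose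
      rwa [← coe_smul, h4.choose_spec] at this
    · exact one_mem _) e (g • K)
  rw [show (g * x * g⁻¹) • g • K = g • K by rw [mul_smul, mul_smul, inv_smul_smul, hmv K]] at h4
  simp only [dif_pos h3, mul_smul] at h4
  refine hy ⟨h3.choose⁻¹ * g, by rw [MulAction.mem_stabilizer_iff, mul_smul, inv_smul_eq_iff, h3.choose_spec]⟩
    (Subtype.ext ?_)
  change ((h3.choose⁻¹ * g) * x * (h3.choose⁻¹ * g)⁻¹) • (y : V) = y
  rw [mul_inv_rev, inv_inv, mul_assoc, mul_assoc, mul_smul, inv_smul_eq_iff, mul_smul, mul_smul, mul_smul]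
  exact h4

/-- Subnormality criterion in solvable groups (Fumagalli). -/
theorem mem_pCore (h2 : p ≠ 2) (n : ℕ) : ∀ (G : Type u) [Group G] [Finite G], Nat.card G = n → Group.IsSolvable G →
    ∀ a : G, (∀ c : G, ∃ g, IsConj c g ∧ ∃ P : Subgroup G, IsPGroup p P ∧ a ∈ P ∧ g * a * g⁻¹ ∈ P) →
      a ∈ pCore p G := by
  induction n using Nat.strong_induction_on with
  | _ n ih =>
  intro G _ _ hn hs a h
  rcases subsingleton_or_nontrivial G with hG | hG
  · rw [Subsingleton.elim a 1]; exact one_mem _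
  obtain ⟨N, r, hr, hN, hNe⟩ := exists_isMinNormal_isElementaryAbelian G
  have := hN.normal
  have : Fact r.Prime := ⟨hr⟩
  let f := QuotientGroup.mk' N
  have h1 : f a ∈ pCore p (G ⧸ N) := ih _ (by
      rw [← hn, card_eq_card_quotient_mul_card_subgroup N]
      exact lt_mul_of_one_lt_right Nat.card_pos ((one_lt_card_iff_ne_bot _).2 hN.ne_bot)) _ rfl inferInstance _
    fun c => by
      obtain ⟨c, rfl⟩ := QuotientGroup.mk'_surjective N c
      obtain ⟨g, h1, P, h3, h4, h5⟩ := h c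
      exact ⟨f g, f.map_isConj h1, P.map f, h3.map f, mem_map_of_mem f h4, by simpa using mem_map_of_mem f h5⟩
  have hD : ∀ d ∈ (pCore p (G ⧸ N)).comap f, ∃ k, d ^ p ^ k ∈ N := fun d hd => by
    obtain ⟨k, hk⟩ := pCore_isPGroup p _ ⟨_, hd⟩
    exact ⟨k, (QuotientGroup.eq_one_iff _).1 (congrArg Subtype.val hk)⟩
  have hNr := isPGroup_of_isElementaryAbelian hNe
  by_cases hrp : r = p
  · subst hrp
    refine le_pCore (N := (pCore r (G ⧸ N)).comap f) (fun d => ?_) h1
    obtain ⟨k, hk⟩ := hD d d.2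
    exact ⟨k + 1, Subtype.ext (by rw [pow_succ, pow_mul]; exact hNe.2 _ hk)⟩
  have hpN : ¬ p ∣ Nat.card N := fun hd => by
    obtain ⟨k, hk⟩ := IsPGroup.iff_card.1 hNr
    exact hrp ((Nat.prime_dvd_prime_iff_eq hp.out hr).1 (hp.out.dvd_of_dvd_pow (hk ▸ hd))).symm
  have hone : ∀ {P : Subgroup G}, IsPGroup p P → ∀ y ∈ P, y ∈ N → y = 1 := fun hP y h3 h4 =>
    disjoint_def.1 (IsPGroup.disjoint_of_ne p r (Ne.symm hrp) _ _ hP hNr) h3 h4
  have hcN : ∀ x ∈ N, ∀ y ∈ N, x * y = y * x := fun x hx y hy =>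
    congrArg Subtype.val (hNe.1.is_comm.comm ⟨x, hx⟩ ⟨y, hy⟩)
  let : CommGroup N := { (inferInstance : Group N) with mul_comm := hNe.1.is_comm.comm }
  let := MulDistribMulAction.compHom N (MulAut.conjNormal : G →* MulAut N)
  have hsm : ∀ (g : G) (v : N), ((g • v : N) : G) = g * v * g⁻¹ := fun _ _ => rfl
  by_cases h3 : ∃ v : N, a • v ≠ v
  · obtain ⟨v, hv⟩ := inw h2 _ _ G N ((pCore p (G ⧸ N)).comap f) le_rfl rfl (fun d hd => (hD d hd).imp
      fun k hk v => Subtype.ext (by rw [hsm, hcN _ hk _ v.2, mul_inv_cancel_right])) hpN a h1 h3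
    obtain ⟨g, h4, P, h5, h6, h7⟩ := h v
    obtain ⟨c, rfl⟩ := isConj_iff.1 h4
    have h8 := hone h5 _ (mul_mem h7 (inv_mem h6)) (by
      have := Normal.conj_mem inferInstance _ v.2 c
      rw [mul_assoc, mul_assoc]
      exact mul_mem this (by simpa [mul_assoc] using Normal.conj_mem inferInstance _ (inv_mem this) a))
    refine (hv c⁻¹ (Subtype.ext ?_)).elim
    rw [hsm, mul_inv_eq_iff_eq_mul]
    rw [mul_inv_eq_one, mul_inv_eq_iff_eq_mul] at h8
    calc _ = c⁻¹ * (a * (c * v * c⁻¹)) * c := by group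
      _ = _ := by rw [← h8]; group
  push Not at h3
  let C := (pCore p (G ⧸ N)).comap f ⊓ centralizer (N : Set G)
  have haC : a ∈ C := ⟨h1, mem_centralizer_iff.2 fun v hv =>
    (mul_inv_eq_iff_eq_mul.1 (congrArg Subtype.val (h3 ⟨v, hv⟩))).symm⟩
  obtain ⟨V, hV, h4, h5⟩ := CL.Blk.exists_normal_isPGroup_mul_of_central (G := C) (p := p) (L := ⊤)
    (Z := N.subgroupOf C) (fun z hz => mem_center_iff.2 fun c => Subtype.ext
      (mem_centralizer_iff.1 c.2.2 z hz).symm) fun l _ => hD l l.2.1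
  obtain ⟨z, hz, v, hv, e⟩ := h5 ⟨a, haC⟩ (mem_top _)
  have h6 : V.map C.subtype ≤ pCore p G := le_pCore_of_isSubnormal
    ((subnIn_map_subtype hV.isSubnormal).isSubnormal_of (Normal.isSubnormal inferInstance)) (h4.map _)
  have h7 := h6 (mem_map_of_mem C.subtype hv)
  obtain ⟨-, -, P, h8, h9, -⟩ := h 1
  have h10 : (z : G) = 1 := hone (IsPGroup.to_sup_of_normal_right h8 (pCore_isPGroup p G)) _ (by
    rw [eq_mul_inv_of_mul_eq e.symm]
    exact mul_mem (mem_sup_left h9) (inv_mem (mem_sup_right h7))) hz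
  have h11 : a = z * v := congrArg Subtype.val e
  rwa [h11, h10, one_mul]

end inw

end CL.Grp.Homog
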