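/-
The index of the derived subgroup of a group with a normal subgroup with cyclic quotient; groups
with a TI Sylow subgroup; Sylow subgroups normalizing each other.
-/
import Cfsg.Agent.Grp.PGroupMaxClass
import Cfsg.Agent.Grp.MinNormal
import Cfsg.Agent.Grp.Coprime
import Cfsg.Agent.Loc.PConstr

set_option autoImplicit false
set_option linter.style.haveILetI false

open Cfsg Subgroup
open scoped Pointwise commutatorElement

namespace CL.Grp

universe u

variable {G : Type u} [Group G]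

/-- If `G = N ⟨x⟩` with `N` normal, then `|G : G'| = |G : N| · |C_{N/N'}(x)|`. -/
theorem index_commutator_mul_card [Finite G] (N : Subgroup G) [hN : N.Normal] (x : G)
    (hx : N ⊔ zpowers x = ⊤) :
    (commutator G).index * Nat.card (⁅N, N⁆ : Subgroup G) =
      N.index * Nat.card {n : N // x * n * x⁻¹ * (n : G)⁻¹ ∈ ⁅N, N⁆} := by
  set D : Subgroup G := ⁅N, N⁆ with hD
  have hcomm : ∀ a ∈ N, ∀ b ∈ N, (a : G ⧸ D) * b = b * a := by
    intro a ha b hb
    rw [← commutatorElement_eq_one_iff_mul_comm]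
    exact (QuotientGroup.eq_one_iff ⁅a, b⁆).mpr (commutator_mem_commutator ha hb)
  let f : N →* G ⧸ D :=
    MonoidHom.mk' (fun n => ((x * n * x⁻¹ * (n : G)⁻¹ : G) : G ⧸ D)) fun a b => by
      have h1 := hcomm _ (N.mul_mem (hN.conj_mem _ b.2 x) (N.inv_mem b.2)) _ (N.inv_mem a.2)
      have h2 : x * (a * b : N) * x⁻¹ * ((a * b : N) : G)⁻¹ =
          x * a * x⁻¹ * (x * b * x⁻¹ * (b : G)⁻¹ * (a : G)⁻¹) := by
        push_cast
        group
      rw [h2, QuotientGroup.mk_mul, QuotientGroup.mk_mul _ _ (a : G)⁻¹, h1,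
        QuotientGroup.mk_mul _ _ (a : G)⁻¹, ← mul_assoc]
  have hf : ∀ n : N, f n = ((x * n * x⁻¹ * (n : G)⁻¹ : G) : G ⧸ D) := fun _ => rfl
  have hR : f.range.Normal := by
    rw [← normalizer_eq_top_iff, eq_top_iff, ← map_top_of_surjective _
      (QuotientGroup.mk'_surjective D), ← hx, map_le_iff_le_comap]
    refine sup_le (fun m hm => mem_normalizer_fintype ?_)
      ((zpowers_le).mpr (mem_normalizer_fintype ?_))
    · rintro _ ⟨n, rfl⟩
      refine ⟨n, ?_⟩
      rw [hf, QuotientGroup.mk'_apply,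
        hcomm m hm _ (N.mul_mem (hN.conj_mem _ n.2 x) (N.inv_mem n.2)), mul_inv_cancel_right]
    · rintro _ ⟨n, rfl⟩
      refine ⟨⟨x * n * x⁻¹, hN.conj_mem _ n.2 x⟩, ?_⟩
      rw [hf, hf, QuotientGroup.mk'_apply, ← QuotientGroup.mk_inv, ← QuotientGroup.mk_mul,
        ← QuotientGroup.mk_mul]
      congr 1
      group
  have hrange : f.range = (commutator G).map (QuotientGroup.mk' D) := by
    refine le_antisymm ?_ ?_
    · rintro _ ⟨n, rfl⟩
      exact ⟨_, commutator_mem_commutator (mem_top x) (mem_top (n : G)), rfl⟩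
    · let π : G →* (G ⧸ D) ⧸ f.range := (QuotientGroup.mk' f.range).comp (QuotientGroup.mk' D)
      have h1 : ∀ n ∈ N, ∀ g : G, π g * π n = π n * π g := by
        intro n hn g
        have h2 : N ⊔ zpowers x ≤ (centralizer {π n}).comap π := by
          refine sup_le (fun m hm => ?_) ((zpowers_le).mpr ?_)
          · rw [mem_comap, mem_centralizer_singleton_iff, ← map_mul, ← map_mul]
            exact congrArg (QuotientGroup.mk' f.range) (hcomm m hm n hn)
          · rw [mem_comap, mem_centralizer_singleton_iff, ← commutatorElement_eq_one_iff_mul_comm,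
              ← map_commutatorElement]
            exact (QuotientGroup.eq_one_iff _).mpr ⟨⟨n, hn⟩, rfl⟩
        exact mem_centralizer_singleton_iff.mp (h2 (hx ▸ mem_top g))
      have h2 : ∀ a b : G, π a * π b = π b * π a := by
        intro a b
        obtain ⟨m, hm, _, ⟨i, rfl⟩, rfl⟩ := mem_sup_of_normal_left.mp (hx ▸ mem_top a)
        obtain ⟨n, hn, _, ⟨j, rfl⟩, rfl⟩ := mem_sup_of_normal_left.mp (hx ▸ mem_top b)
        have h3 : Commute (π m * π (x ^ i)) (π n * π (x ^ j)) :=
          Commute.mul_left (h1 m hm _).symm (Commute.mul_right (h1 n hn _)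
            ((Commute.zpow_zpow_self x i j).map π))
        simpa only [map_mul] using h3.eq
      rw [map_le_iff_le_comap, _root_.commutator_def, commutator_le]
      intro a _ b _
      rw [mem_comap, ← QuotientGroup.eq_one_iff]
      change π ⁅a, b⁆ = 1
      rw [map_commutatorElement, commutatorElement_eq_one_iff_mul_comm, h2]
  have h1 : Nat.card N = Nat.card {n : N // x * n * x⁻¹ * (n : G)⁻¹ ∈ D} * Nat.card f.range := by
    rw [← f.ker.card_mul_index, index_ker]
    congr 1
    exact Nat.card_congr (Equiv.subtypeEquivRight fun n => QuotientGroup.eq_one_iff _)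
  have h2 : Nat.card (commutator G) = Nat.card D * Nat.card f.range := by
    rw [hrange, card_map_mk',
      card_mul_relIndex (show D ≤ commutator G from commutator_mono le_top le_top)]
  have h3 := (commutator G).index_mul_card
  rw [← N.index_mul_card, h1, h2, ← mul_assoc, ← mul_assoc] at h3
  exact Nat.eq_of_mul_eq_mul_right Nat.card_pos h3

theorem sup_zpowers_eq_top_of_index_prime {N : Subgroup G} (hN : N.index.Prime) {x : G}
    (hx : x ∉ N) : N ⊔ zpowers x = ⊤ :=
  (isCoatom_of_index_prime hN).2 _ (left_lt_sup.mpr fun h => hx (h (mem_zpowers x)))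

variable [Finite G] {p : ℕ} [hp : Fact p.Prime]

/-- With a TI Sylow subgroup, a subgroup centralizing a subnormal subgroup of order divisible by
`p` normalizes the Sylow subgroup. -/
theorem le_normalizer_sylow_of_TI (P : Sylow p G)
    (hTI : ∀ g : G, g ∉ normalizer ((P : Subgroup G) : Set G) →
      (P : Subgroup G) ⊓ (MulAut.conj g • (P : Subgroup G)) = ⊥) {x : G}
    (hx : x ∈ (P : Subgroup G)) (h1 : x ≠ 1) :
    centralizer ({x} : Set G) ≤ normalizer ((P : Subgroup G) : Set G) := by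
  intro g hg
  by_contra hn
  have h2 : x ∈ (P : Subgroup G) ⊓ (MulAut.conj g • (P : Subgroup G)) :=
    ⟨hx, x, hx, by
      change g * x * g⁻¹ = x
      rw [mem_centralizer_singleton_iff.mp hg, mul_inv_cancel_right]⟩
  rw [hTI g hn] at h2
  exact h1 h2

theorem IsSylowIn.ne_bot_of_dvd {S H : Subgroup G} (h : IsSylowIn p S H) (hd : p ∣ Nat.card H) :
    S ≠ ⊥ := by
  rintro rfl
  exact h.not_dvd (by rwa [relIndex_bot_left])

theorem eq_bot_of_commute_of_TI (hOp : pCore p G = ⊥) (hOp' : pPrimeCore p G = ⊥) (P : Sylow p G)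
    (hTI : ∀ g : G, g ∉ normalizer ((P : Subgroup G) : Set G) →
      (P : Subgroup G) ⊓ (MulAut.conj g • (P : Subgroup G)) = ⊥) {N A B : Subgroup G} [N.Normal]
    (hAN : A ≤ N) (hBN : B ≤ N) (hA : N ≤ normalizer (A : Set G))
    (hB : N ≤ normalizer (B : Set G)) (hAB : ⁅A, B⁆ = ⊥) (hA1 : A ≠ ⊥) : B = ⊥ := by
  have hdvd : ∀ C : Subgroup G, C ≤ N → N ≤ normalizer (C : Set G) → C ≠ ⊥ → p ∣ Nat.card C := by
    intro C hCN hC hC1
    by_contra hn
    have h1 : C ≤ pPrimeCoreOf p N :=
      le_pPrimeCoreOf hCN hC ((hp.out.coprime_iff_not_dvd.mpr hn).symm)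
    haveI : (pPrimeCoreOf p N).Normal := by
      rw [← normalizer_eq_top_iff, eq_top_iff]
      refine le_trans ?_ (normalizer_le_normalizer_pPrimeCoreOf p N)
      rw [normalizer_eq_top_iff.mpr ‹N.Normal›]
    have h2 := le_pPrimeCore (pPrimeCoreOf_coprime p N)
    rw [hOp'] at h2
    exact hC1 (le_bot_iff.mp (h1.trans h2))
  have hS := isSylowIn_inf_normal P N
  have hSA := hS.inf_of_normalized hAN hA
  have hSB := hS.inf_of_normalized hBN hB
  obtain ⟨⟨x, hx⟩, hx1⟩ := ne_bot_iff_exists_ne_one.mp (hSA.ne_bot_of_dvd (hdvd A hAN hA hA1))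
  have h1 : B ≤ normalizer ((P : Subgroup G) : Set G) := by
    refine le_trans (fun b hb => ?_)
      (le_normalizer_sylow_of_TI P hTI hx.1.1 (fun e => hx1 (Subtype.ext e)))
    rw [mem_centralizer_singleton_iff, eq_comm, ← commutatorElement_eq_one_iff_mul_comm,
      ← mem_bot, ← hAB]
    exact commutator_mem_commutator hx.2 hb
  by_contra hB1
  apply hSB.ne_bot_of_dvd (hdvd B hBN hB hB1)
  have h2 : (P : Subgroup G) ⊓ N ⊓ B ≤ pCoreOf p B :=
    le_pCoreOf inf_le_right (le_normalizer_inf (le_normalizer_inf h1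
      (hBN.trans le_normalizer)) le_normalizer) hSB.isPGroup
  have h3 := (h2.trans (pCoreOf_le_of_le_normalizer hBN hB)).trans (pCoreOf_le_pCore_of_normal N)
  rwa [hOp, le_bot_iff] at h3

/-- In a `p`-solvable group, elements of order prime to `p` centralizing `O_{p',p} / O_{p'}` lie
in `O_{p'}`. -/
theorem mem_pPrimeCore_of_centralizes (h : IsPSolvable p G) {y : G} (hy : (orderOf y).Coprime p)
    (hc : (y : G ⧸ pPrimeCore p G) ∈
      centralizer (pCore p (G ⧸ pPrimeCore p G) : Set (G ⧸ pPrimeCore p G))) :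
    y ∈ pPrimeCore p G := by
  have h1 := Loc.centralizer_pCore_le_of_isPSolvable (Loc.isPSolvable_quotient h _)
    (pPrimeCore_quotient_pPrimeCore p G) hc
  rw [← QuotientGroup.eq_one_iff]
  obtain ⟨k, hk⟩ := pCore_isPGroup p _ ⟨_, h1⟩
  rw [← orderOf_eq_one_iff]
  exact Nat.eq_one_of_dvd_coprimes (hy.pow_right k)
    (orderOf_map_dvd (QuotientGroup.mk' (pPrimeCore p G)) y)
    (orderOf_dvd_of_pow_eq_one (congrArg Subtype.val hk))

theorem exists_sylow_le_of_not_dvd_index {H : Subgroup G} (h : ¬ p ∣ H.index) :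
    ∃ P : Sylow p G, (P : Subgroup G) ≤ H := by
  obtain ⟨S, hS⟩ := exists_isSylowIn (p := p) H
  obtain ⟨P, hP⟩ := isSylowIn_top_iff.mp (show IsSylowIn p S ⊤ from ⟨le_top, hS.isPGroup, by
    rw [relIndex_top_right, ← relIndex_mul_index hS.le]
    exact hp.out.not_dvd_mul hS.not_dvd h⟩)
  exact ⟨P, hP ▸ hS.le⟩

theorem exists_sylow_normalizes_of_not_dvd {q : ℕ} [hq : Fact q.Prime]
    (h : ¬ q ∣ (pPrimeCore p G).index) :
    ∃ (P : Sylow p G) (Q : Sylow q G),
      (P : Subgroup G) ≤ normalizer ((Q : Subgroup G) : Set G) := by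
  obtain ⟨Q, hQ⟩ := exists_sylow_le_of_not_dvd_index h
  have h1 : normalizer ((Q : Subgroup G) : Set G) ⊔ pPrimeCore p G = ⊤ :=
    Sylow.normalizer_sup_eq_top' Q hQ
  obtain ⟨P, hP⟩ := exists_sylow_le_of_not_dvd_index (p := p)
    (H := normalizer ((Q : Subgroup G) : Set G)) (fun hd => by
      have h2 := card_sup_dvd_of_normal (normalizer ((Q : Subgroup G) : Set G)) (pPrimeCore p G)
      rw [h1, card_top, ← (normalizer ((Q : Subgroup G) : Set G)).card_mul_index] at h2
      exact not_dvd_card_pPrimeCore p G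
        (hd.trans (Nat.dvd_of_mul_dvd_mul_left Nat.card_pos h2)))
  exact ⟨P, Q, hP⟩

theorem not_dvd_index_pPrimeCore_of_sylow_le {q : ℕ} [hq : Fact q.Prime] (Q : Sylow q G)
    (h : (Q : Subgroup G) ≤ pPrimeCore p G) : ¬ q ∣ (pPrimeCore p G).index :=
  fun hd => Q.not_dvd_index (hd.trans (index_dvd_of_le h))

theorem coprime_orderOf_of_mem_sylow {q : ℕ} [hq : Fact q.Prime] (hpq : p ≠ q) (Q : Sylow q G)
    {y : G} (hy : y ∈ (Q : Subgroup G)) : (orderOf y).Coprime p := by
  obtain ⟨k, hk⟩ := Q.2 ⟨y, hy⟩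
  exact Nat.Coprime.coprime_dvd_left (orderOf_dvd_of_pow_eq_one (congrArg Subtype.val hk))
    (((Nat.coprime_primes hq.out hp.out).mpr hpq.symm).pow_left k)

theorem sylow_le_pPrimeCore_of_normalizes {q : ℕ} [hq : Fact q.Prime] (hpq : p ≠ q)
    (hs : IsPSolvable p G) (P : Sylow p G) (Q : Sylow q G)
    (h : (P : Subgroup G) ≤ normalizer ((Q : Subgroup G) : Set G)) :
    (Q : Subgroup G) ≤ pPrimeCore p G := by
  intro y hy
  refine mem_pPrimeCore_of_centralizes hs (coprime_orderOf_of_mem_sylow hpq Q hy) ?_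
  intro u hu
  obtain ⟨v, hv, rfl⟩ := pCore_le_sylow
    (P.mapSurjective (QuotientGroup.mk'_surjective (pPrimeCore p G))) hu
  rw [← commutatorElement_eq_one_iff_mul_comm]
  have h1 : ⁅QuotientGroup.mk' (pPrimeCore p G) v, (y : G ⧸ pPrimeCore p G)⁆ ∈
      pCore p (G ⧸ pPrimeCore p G) := by
    rw [commutatorElement_def, mul_assoc, mul_assoc, ← mul_assoc (y : G ⧸ pPrimeCore p G)]
    exact mul_mem hu ((inferInstance : (pCore p _).Normal).conj_mem _ (inv_mem hu) _)
  have h2 : ⁅v, y⁆ ∈ (Q : Subgroup G) :=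
    mul_mem ((mem_normalizer_iff.mp (h hv) y).mp hy) (inv_mem hy)
  obtain ⟨k, hk⟩ := pCore_isPGroup p _ ⟨_, h1⟩
  rw [← orderOf_eq_one_iff]
  refine Nat.eq_one_of_dvd_coprimes ((coprime_orderOf_of_mem_sylow hpq Q h2).pow_right k) ?_
    (orderOf_dvd_of_pow_eq_one (congrArg Subtype.val hk))
  exact orderOf_map_dvd (QuotientGroup.mk' (pPrimeCore p G)) ⁅v, y⁆

/-- The `q`-solvable case of the normalizing theorem. -/
theorem exists_sylow_normalizes_of_qSolvable {q : ℕ} [hq : Fact q.Prime] :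
    ∀ (G : Type u) [Group G] [Finite G], IsPSolvable q G →
      (∀ y : G, (∃ k : ℕ, orderOf y = q ^ k) → ¬ p ∣ (centralizer ({y} : Set G)).index) →
      ∃ (P : Sylow p G) (Q : Sylow q G),
        (P : Subgroup G) ≤ normalizer ((Q : Subgroup G) : Set G) := by
  refine induction_on_card fun G _ _ ih hs h => ?_
  obtain ⟨Q⟩ : Nonempty (Sylow q G) := inferInstance
  rcases subsingleton_or_nontrivial G with hG | hG
  · obtain ⟨P⟩ : Nonempty (Sylow p G) := inferInstance
    exact ⟨P, Q, fun x _ => by rw [Subsingleton.elim x 1]; exact one_mem _⟩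
  obtain ⟨N, hN, hN1, hNQ⟩ : ∃ N : Subgroup G, N.Normal ∧ N ≠ ⊥ ∧ ∀ Q : Sylow q G,
      ¬ p ∣ (normalizer ((Q : Subgroup G) : Set G)).relIndex N := by
    rcases Loc.pCore_ne_bot_or_pPrimeCore_ne_bot hs with h1 | h1
    · refine ⟨_, inferInstance, h1, fun Q => ?_⟩
      rw [relIndex_eq_one.mpr ((pCore_le_sylow Q).trans le_normalizer)]
      exact hp.out.not_dvd_one
    · refine ⟨_, inferInstance, h1, fun Q => ?_⟩
      set K := pPrimeCore q G with hK
      have hcop : ∀ A : Subgroup G, IsPGroup q A → (Nat.card A).Coprime (Nat.card K) := by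
        intro A hA
        obtain ⟨k, hk⟩ := IsPGroup.iff_card.mp hA
        rw [hk]
        exact (pPrimeCore_coprime q G).symm.pow_left k
      obtain ⟨S, hS, hSQ⟩ := exists_isSylowIn_le_normalizer p (A := Q) (K := K)
        le_normalizer_of_normal (hcop _ Q.2) (Or.inl (haveI := Q.2.isNilpotent; inferInstance))
      have h2 : S ≤ centralizer ((Q : Subgroup G) : Set G) := by
        rw [le_centralizer_iff]
        intro y hy
        have hz : zpowers y ≤ (Q : Subgroup G) := zpowers_le.mpr hy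
        have h3 := hS.inf_centralizer (A := zpowers y) le_normalizer_of_normal
          (hcop _ (Q.2.to_le hz)) (Or.inl inferInstance) (hz.trans hSQ)
        obtain ⟨k, hk⟩ := IsPGroup.iff_orderOf.mp Q.2 ⟨y, hy⟩
        obtain ⟨P, hP⟩ := exists_sylow_le_of_not_dvd_index
          (h y ⟨k, by rw [← hk, orderOf_mk]⟩)
        have h4 := isSylowIn_inf_normal P K
        have h5 : (P : Subgroup G) ⊓ K ≤ K ⊓ centralizer (zpowers y : Set G) := by
          refine le_inf inf_le_right (inf_le_left.trans (hP.trans ?_))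
          rw [zpowers_eq_closure, centralizer_closure]
        have h6 := h3.card_le h4.isPGroup h5
        rw [h4.card_eq hS] at h6
        have h7 := eq_of_le_of_card_ge (inf_le_left : S ⊓ centralizer (zpowers y : Set G) ≤ S) h6
        intro s hs
        exact ((h7.ge hs).2 y (mem_zpowers y)).symm
      intro hd
      apply hS.not_dvd
      refine hd.trans (relIndex_dvd_of_le_left _ (h2.trans (centralizer_le_normalizer _)))
  let π := QuotientGroup.mk' N
  have hπ := QuotientGroup.mk'_surjective N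
  obtain ⟨P', Q', hPQ⟩ := ih (G ⧸ N) (card_quotient_lt hN1) (Loc.isPSolvable_quotient hs N) (by
    rintro y ⟨k, hk⟩
    obtain ⟨Q₀, hQ₀⟩ := (show IsPGroup q (zpowers y) from
      IsPGroup.of_card (by rw [Nat.card_zpowers, hk])).exists_le_sylow
    obtain ⟨Q₁, rfl⟩ := Sylow.mapSurjective_surjective hπ q Q₀
    obtain ⟨z, hz, rfl⟩ := hQ₀ (mem_zpowers y)
    obtain ⟨j, hj⟩ := IsPGroup.iff_orderOf.mp Q₁.2 ⟨z, hz⟩
    refine fun hd => h z ⟨j, by rw [← hj, orderOf_mk]⟩ (hd.trans ?_)
    rw [← index_comap_of_surjective _ hπ]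
    refine index_dvd_of_le fun c hc => ?_
    rw [mem_comap, mem_centralizer_singleton_iff, ← map_mul, ← map_mul,
      mem_centralizer_singleton_iff.mp hc])
  obtain ⟨Q, rfl⟩ := Sylow.mapSurjective_surjective hπ q Q'
  set H := (normalizer (((Q.mapSurjective hπ : Sylow q (G ⧸ N)) : Subgroup (G ⧸ N)) :
    Set (G ⧸ N))).comap π with hH
  have hHi : ¬ p ∣ H.index := by
    rw [hH, index_comap_of_surjective _ hπ]
    exact fun hd => P'.not_dvd_index (hd.trans (index_dvd_of_le hPQ))
  set T := normalizer ((Q : Subgroup G) : Set G) with hT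
  have hHT : H ≤ T ⊔ N := by
    intro g hg
    have h1 : H ≤ normalizer (((Q : Subgroup G) ⊔ N : Subgroup G) : Set G) := by
      have h2 : (Q : Subgroup G) ⊔ N = ((Q : Subgroup G).map π).comap π := by
        rw [comap_map_eq, QuotientGroup.ker_mk']
      rw [h2]
      exact le_normalizer_comap π
    obtain ⟨n, hn, h2⟩ := (isSylowIn_of_le Q (le_sup_left : _ ≤ (Q : Subgroup G) ⊔ N)).frattini h1 hg
    have h3 : g = n⁻¹ * (n * g) := by group
    rw [h3]
    exact mul_mem (inv_mem (sup_le_sup_right le_normalizer N hn)) (mem_sup_left h2)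
  obtain ⟨P, hP⟩ := exists_sylow_le_of_not_dvd_index (p := p) (H := T) (by
    rw [← relIndex_mul_index (le_sup_left : T ≤ T ⊔ N)]
    refine hp.out.not_dvd_mul ?_ fun hd => hHi (hd.trans (index_dvd_of_le hHT))
    have h1 := card_sup_mul_card_inf_of_normal T N
    rw [← card_mul_relIndex (le_sup_left : T ≤ T ⊔ N), ← card_inf_mul_relIndex T N, mul_assoc,
      mul_comm (T.relIndex (T ⊔ N))] at h1
    rw [Nat.eq_of_mul_eq_mul_left Nat.card_pos (Nat.eq_of_mul_eq_mul_left Nat.card_pos h1)]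
    exact hNQ Q)
  exact ⟨P, Q, hP⟩

end CL.Grp
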