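/-
Wielandt's theorems: a nilpotent direct factor of a Hall subgroup preserves the property `D_π`.
-/
import Cfsg.Agent.Grp.Carter
import Cfsg.Agent.Grp.HallConverse
import Cfsg.Agent.Grp.Schmidt

open Subgroup Cfsg
open scoped Pointwise

namespace CL.Grp

universe u
variable {G : Type u} [Group G]

theorem hallD_congr {π σ : Set ℕ} (h : ∀ p : ℕ, p.Prime → p ∣ Nat.card G → (p ∈ π ↔ p ∈ σ))
    (hD : HallD π G) : HallD σ G := by
  obtain ⟨H, hH, hD⟩ := hD
  exact ⟨H, isPiHall_congr h hH, fun K hK => hD K fun p hp hd =>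
    (h p hp (hd.trans K.card_subgroup_dvd_card)).2 (hK p hp hd)⟩

theorem hallD_empty (G : Type u) [Group G] : HallD ∅ G := by
  refine ⟨⊥, ⟨hall_pi_bot _, fun _ _ h => h.elim⟩, fun K hK => ⟨1, ?_⟩⟩
  have : K = ⊥ := by
    rw [← Subgroup.card_eq_one]
    by_contra hne
    obtain ⟨p, hp, hd⟩ := Nat.exists_prime_and_dvd hne
    exact hK p hp hd
  rw [this]
  exact bot_le

theorem hallD_singleton [Finite G] (p : ℕ) [Fact p.Prime] : HallD {p} G := by
  obtain ⟨P⟩ : Nonempty (Sylow p G) := inferInstance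
  refine ⟨P, isPiHall_sylow P, fun K hK => ?_⟩
  obtain ⟨g, hg⟩ := exists_conj_le_sylow P (isPiSubgroup_singleton_iff.1 hK)
  exact ⟨g⁻¹, by rwa [map_inv, ← Subgroup.pointwise_smul_subset_iff]⟩

/-- The two forms of the property `D_π` agree. -/
theorem hallD_of_isDPiGroup [Finite G] {π : Set ℕ} (h : IsDPiGroup π G) : HallD π G := by
  have hex : ∀ K : Subgroup G, IsPiSubgroup π K → ∃ M, K ≤ M ∧ Maximal (IsPiSubgroup π) M :=
    fun K hK => exists_maximal_ge_of_wellFoundedGT (IsPiSubgroup π) K hK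
  obtain ⟨M, -, hM⟩ := hex ⊥ (hall_pi_bot π)
  have key : ∀ K : Subgroup G, IsPiSubgroup π K → ∃ g : G, K ≤ MulAut.conj g • M := by
    intro K hK
    obtain ⟨L, hKL, hL⟩ := hex K hK
    obtain ⟨g, hg⟩ := h M L hM hL
    exact ⟨g, hKL.trans hg.le⟩
  refine ⟨M, ⟨hM.prop, fun p hp hπ hd => ?_⟩, key⟩
  have := Fact.mk hp
  obtain ⟨P⟩ : Nonempty (Sylow p G) := inferInstance
  obtain ⟨g, hg⟩ := key P (isPiSubgroup_of_isPGroup P.2 hπ)
  rw [← hall_index_conj g] at hd
  exact P.not_dvd_index (hd.trans (Subgroup.index_dvd_of_le hg))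

theorem hallD_iff_isDPiGroup [Finite G] {π : Set ℕ} : HallD π G ↔ IsDPiGroup π G :=
  ⟨HallD.isDPiGroup, hallD_of_isDPiGroup⟩

/-- A Hall subgroup of a Hall subgroup is a Hall subgroup. -/
theorem isPiHall_of_isPiHallOf {π σ : Set ℕ} {A B : Subgroup G} (hA : IsPiHallOf π A B)
    (hB : IsPiHall σ B) (h : ∀ p : ℕ, p.Prime → p ∈ π → p ∈ σ) : IsPiHall π A := by
  refine ⟨hA.2.1, fun p hp hπ hd => ?_⟩
  rw [← Subgroup.relIndex_mul_index hA.1, hp.dvd_mul] at hd
  exact hd.elim (hA.2.2 p hp hπ) (hB.2 p hp (h p hp hπ))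

/-- The join of two Hall subgroups, one normalizing the other, is a Hall subgroup. -/
theorem isPiHall_sup {π σ : Set ℕ} {A B : Subgroup G} (hA : IsPiHall π A) (hB : IsPiHall σ B)
    (h : A ≤ Subgroup.normalizer (B : Set G)) : IsPiHall (π ∪ σ) (A ⊔ B) := by
  refine ⟨isPiSubgroup_sup (isPiSubgroup_mono Set.subset_union_left hA.1)
    (isPiSubgroup_mono Set.subset_union_right hB.1) h, fun p hp hπ hd => ?_⟩
  rcases hπ with hπ | hπ
  · exact hA.2 p hp hπ (hd.trans (Subgroup.index_dvd_of_le le_sup_left))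
  · exact hB.2 p hp hπ (hd.trans (Subgroup.index_dvd_of_le le_sup_right))

theorem exists_sup_le_conj_of_normalizer [Finite G] {r : ℕ} [Fact r.Prime] {A B H R : Subgroup G}
    (hB : IsPGroup r B) (hBA : B ≤ Subgroup.normalizer (A : Set G)) (g : G)
    (hA : MulAut.conj g • A ≤ H) (hR : R ≤ H) (hr : ¬ r ∣ R.index)
    (hRA : R ≤ Subgroup.normalizer ((MulAut.conj g • A : Subgroup G) : Set G)) :
    ∃ x : G, A ⊔ B ≤ MulAut.conj x • H := by
  obtain ⟨S, hS⟩ := exists_isSylowIn (p := r) R
  have hS' : IsSylowIn r S (Subgroup.normalizer ((MulAut.conj g • A : Subgroup G) : Set G)) := by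
    refine ⟨hS.le.trans hRA, hS.isPGroup, fun hd => ?_⟩
    rw [← Subgroup.relIndex_mul_relIndex S R _ hS.le hRA, (Fact.out : r.Prime).dvd_mul] at hd
    exact hd.elim hS.not_dvd fun hd => hr (hd.trans (Subgroup.relIndex_dvd_index_of_le hRA))
  obtain ⟨x, hx, hle⟩ := hS'.exists_conj_le (IsPGroup.conj_smul hB g) (by
    rw [normalizer_conj_smul]
    exact Subgroup.pointwise_smul_le_pointwise_smul_iff.2 hBA)
  refine ⟨(x * g)⁻¹, ?_⟩
  rw [map_inv, ← Subgroup.pointwise_smul_subset_iff, map_mul, mul_smul, Subgroup.smul_sup,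
    Subgroup.smul_sup, (conj_smul_eq_self_iff _ _).2 hx]
  exact sup_le hA (hle.trans (hS.le.trans hR))

/-- One step of Wielandt's theorem: a Sylow `p`-subgroup centralizing a Hall τ-subgroup. -/
theorem hallD_insert [Finite G] {p : ℕ} [hp : Fact p.Prime] {τ : Set ℕ} (hpτ : p ∉ τ)
    {P T : Subgroup G} (hP : IsPiHall {p} P) (hT : IsPiHall τ T)
    (hc : P ≤ Subgroup.centralizer (T : Set G)) (hD : HallD τ G) : HallD ({p} ∪ τ) G := by
  have hPp : IsPGroup p P := isPiSubgroup_singleton_iff.1 hP.1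
  have hPi : ¬ p ∣ P.index := hP.2 p hp.out rfl
  refine ⟨P ⊔ T, isPiHall_sup hP hT (le_normalizer_of_le_centralizer hc), fun K => ?_⟩
  have hH : HasNormalPComplement p ↥(P ⊔ T) := by
    have : (T.subgroupOf (P ⊔ T)).Normal :=
      (Subgroup.normal_subgroupOf_iff_le_normalizer le_sup_right).2
        (sup_le (le_normalizer_of_le_centralizer hc) Subgroup.le_normalizer)
    refine hasNormalPComplement_iff_exists_normal.2 ⟨T.subgroupOf _, this, ?_, ?_⟩
    · rw [hall_card_subgroupOf le_sup_right, Nat.coprime_comm, hp.out.coprime_iff_not_dvd]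
      exact fun hd => hpτ (hT.1 p hp.out hd)
    · obtain ⟨k, hk⟩ := hPp.exists_card_eq
      have h1 : T.relIndex (P ⊔ T) ∣ p ^ k := by
        rw [relIndex_sup_of_le_normalizer (le_normalizer_of_le_centralizer hc), ← hk]
        exact Subgroup.relIndex_dvd_card _ _
      obtain ⟨j, -, hj⟩ := (Nat.dvd_prime_pow hp.out).1 h1
      exact ⟨j, hj⟩
  induction K using WellFoundedLT.induction with
  | ind K ih =>
  intro hK
  have hmap : ∀ A B : Subgroup K, A ⊔ B = ⊤ → A.map K.subtype ⊔ B.map K.subtype = K := by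
    intro A B h
    rw [← Subgroup.map_sup, h, ← MonoidHom.range_eq_map, Subgroup.range_subtype]
  by_cases h1 : HasNormalPComplement p K
  · obtain ⟨Q, L, hL, hc'⟩ := h1
    have hLτ : IsPiSubgroup τ (L.map K.subtype) := by
      intro q hq hd
      refine (hK q hq (hd.trans (Subgroup.card_dvd_of_le (Subgroup.map_subtype_le L)))).resolve_left
        fun e => ?_
      rw [Set.mem_singleton_iff] at e
      subst e
      rw [hall_card_map_subtype, ← hc'.index_eq_card] at hd
      exact Q.not_dvd_index hd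
    obtain ⟨g, hg⟩ := hD.le_conj hT hLτ
    rw [Subgroup.subset_pointwise_smul_iff, ← map_inv] at hg
    rw [← hmap _ _ hc'.sup_eq_top]
    exact exists_sup_le_conj_of_normalizer (Q.2.map _)
      ((Subgroup.map_subtype_le _).trans (le_normalizer_map_subtype L)) g⁻¹ (hg.trans le_sup_right)
      le_sup_left hPi (le_normalizer_of_le_centralizer (hc.trans (Subgroup.centralizer_le hg)))
  · obtain ⟨Q, q, k, g, hq, hqp, hg, hn, htop, hgC⟩ :=
      exists_of_minimal_not_hasNormalPComplement h1 fun X hX => by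
        have hlt : X.map K.subtype < K := by
          conv_rhs => rw [← K.range_subtype, MonoidHom.range_eq_map]
          exact Subgroup.map_subtype_lt_map_subtype.2 (lt_top_iff_ne_top.2 hX)
        obtain ⟨x, hx⟩ := ih _ hlt (hall_pi_of_le hK hlt.le)
        exact HasNormalPComplement.of_equiv
          (HasNormalPComplement.of_le (HasNormalPComplement.conj_smul hH x) hx)
          (X.equivMapOfInjective _ K.subtype_injective).symm
    have := Fact.mk hq
    have hk : k ≠ 0 := by
      rintro rfl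
      rw [pow_zero, orderOf_eq_one_iff] at hg
      exact hgC (hg ▸ Subgroup.one_mem _)
    have hqτ : q ∈ τ := (hK q hq ((dvd_pow_self q hk).trans
      (hg ▸ orderOf_dvd_natCard g))).resolve_left hqp
    obtain ⟨x, hx⟩ := exists_conj_le_of_not_dvd_index hPi (Q.2.map K.subtype)
    rw [← hmap _ _ htop]
    exact exists_sup_le_conj_of_normalizer
      ((IsPGroup.of_card (n := k) (by rw [Nat.card_zpowers, hg])).map _)
      ((Subgroup.map_subtype_le _).trans (le_normalizer_map_subtype (Q : Subgroup K))) x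
      (hx.trans le_sup_left) le_sup_right (hT.2 q hq hqτ) (le_normalizer_of_le_centralizer
        ((Subgroup.le_centralizer_iff.1 hc).trans (Subgroup.centralizer_le hx)))

theorem piCoreOf_le_centralizer_piCoreOf [Finite G] {π σ : Set ℕ} (h : Disjoint π σ)
    (H : Subgroup G) : piCoreOf π H ≤ Subgroup.centralizer (piCoreOf σ H : Set G) := by
  rw [← Subgroup.commutator_eq_bot_iff_le_centralizer, piCoreOf, piCoreOf,
    ← Subgroup.map_commutator, commutator_piCore_eq_bot h, Subgroup.map_bot]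

/-- **Wielandt**: if a nilpotent Hall σ-subgroup centralizes a Hall τ-subgroup, `σ` and `τ` disjoint,
then `D_τ` implies `D_{σ ∪ τ}`. -/
theorem hallD_union_of_isNilpotent [Finite G] {σ τ : Set ℕ} (hd : Disjoint σ τ)
    {S T : Subgroup G} (hS : IsPiHall σ S) (hT : IsPiHall τ T) (hn : Group.IsNilpotent S)
    (hc : S ≤ Subgroup.centralizer (T : Set G)) (hD : HallD τ G) : HallD (σ ∪ τ) G := by
  classical
  have hh : ∀ ρ : Set ℕ, ρ ⊆ σ → IsPiHall ρ (piCoreOf ρ S) := fun ρ hρ =>
    isPiHall_of_isPiHallOf (isPiHallOf_piCoreOf_of_isNilpotent ρ S hn) hS fun _ _ h => hρ h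
  have key : ∀ F : Finset ℕ, (∀ p ∈ F, p.Prime ∧ p ∈ σ) → HallD ((F : Set ℕ) ∪ τ) G := by
    intro F
    induction F using Finset.induction_on with
    | empty => intro _; simpa using hD
    | insert a F ha ih =>
      intro hF
      have h1 : ∀ p ∈ F, p.Prime ∧ p ∈ σ := fun p hp => hF p (Finset.mem_insert_of_mem hp)
      obtain ⟨hp, haσ⟩ := hF a (Finset.mem_insert_self a F)
      have := Fact.mk hp
      rw [Finset.coe_insert, Set.insert_eq, Set.union_assoc]
      refine hallD_insert (P := piCoreOf {a} S) (T := piCoreOf F S ⊔ T) ?_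
        (hh _ (Set.singleton_subset_iff.2 haσ)) (isPiHall_sup (hh _ fun p hp => (h1 p hp).2) hT
          (le_normalizer_of_le_centralizer ((piCoreOf_le _ S).trans hc))) ?_ (ih h1)
      · rintro (h | h)
        · exact ha h
        · exact Set.disjoint_left.1 hd haσ h
      · rw [Subgroup.le_centralizer_iff]
        exact sup_le (piCoreOf_le_centralizer_piCoreOf (Set.disjoint_singleton_right.2 ha) S)
          (Subgroup.le_centralizer_iff.1 ((piCoreOf_le _ S).trans hc))
  refine hallD_congr (fun p hp hdvd => ?_) (key (Nat.card S).primeFactors fun p hp =>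
    ⟨Nat.prime_of_mem_primeFactors hp, hS.1 p (Nat.prime_of_mem_primeFactors hp)
      (Nat.dvd_of_mem_primeFactors hp)⟩)
  refine or_congr_left ⟨fun h => hS.1 p hp (Nat.dvd_of_mem_primeFactors h), fun h => ?_⟩
  rw [← S.card_mul_index, hp.dvd_mul] at hdvd
  exact Nat.mem_primeFactors.2 ⟨hp, hdvd.resolve_right (hS.2 p hp h), Nat.card_pos.ne'⟩

/-- **Wielandt**: a group with a nilpotent Hall π-subgroup satisfies `D_π`. -/
theorem hallD_of_isNilpotent_hall [Finite G] {π : Set ℕ} {H : Subgroup G} (hH : IsPiHall π H)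
    (hn : Group.IsNilpotent H) : HallD π G := by
  have := hallD_union_of_isNilpotent (τ := ∅) (T := ⊥) (Set.disjoint_empty π) hH
    ⟨hall_pi_bot _, fun _ _ h => h.elim⟩ hn (Subgroup.le_centralizer_iff.1 bot_le)
    (hallD_empty G)
  rwa [Set.union_empty] at this

/-- The factors of a Hall subgroup that is a product of a σ-subgroup normalizing a τ-subgroup are
Hall subgroups. -/
theorem isPiHall_right_of_sup [Finite G] {σ τ π : Set ℕ} (hd : Disjoint σ τ) (hτ : τ ⊆ π)
    {A B : Subgroup G} (hH : IsPiHall π (A ⊔ B)) (hA : IsPiSubgroup σ A) (hB : IsPiSubgroup τ B)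
    (h : A ≤ Subgroup.normalizer (B : Set G)) : IsPiHall τ B := by
  refine isPiHall_of_isPiHallOf ⟨le_sup_right, hB, fun p hp hpτ hdvd => ?_⟩ hH fun _ _ h => hτ h
  rw [relIndex_sup_of_le_normalizer h] at hdvd
  exact Set.disjoint_left.1 hd (hA p hp (hdvd.trans (Subgroup.relIndex_dvd_card _ _))) hpτ

end CL.Grp
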