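/-
More on minimal non-nilpotent and minimal non-abelian groups.
-/
import Cfsg.Agent.Grp.Schmidt

set_option autoImplicit false

open scoped Pointwise commutatorElement
open Cfsg

namespace CL.Grp

variable {G : Type*} [Group G] [Finite G]

/-- If `N < Q` with `N` normal, `Q` a `q`-group and `g` a `q'`-element then `N⟨g⟩` is proper. -/
theorem sup_zpowers_ne_top_of_lt {q : ℕ} [hq : Fact q.Prime] {N Q : Subgroup G} [N.Normal]
    (hQ : IsPGroup q Q) (hlt : N < Q) {g : G} (hco : (orderOf g).Coprime q) :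
    N ⊔ Subgroup.zpowers g ≠ ⊤ := fun e => by
  have h1 : ¬ q ∣ N.index := fun hd => by
    have := hd.trans (index_dvd_card_of_sup_eq_top e)
    rw [Nat.card_zpowers] at this
    exact hq.out.one_lt.ne' (Nat.eq_one_of_dvd_coprimes hco this dvd_rfl)
  exact hlt.ne (((hQ.to_le hlt.le).toSylow h1).3 hQ hlt.le).symm

/-- In a minimal non-nilpotent group, a `q'`-element centralises every normal subgroup properly
contained in a `q`-subgroup. -/
theorem IsMinimalNonNilpotent.mem_centralizer_of_lt (hG : IsMinimalNonNilpotent G) {q : ℕ}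
    [hq : Fact q.Prime] {N Q : Subgroup G} [N.Normal] (hQ : IsPGroup q Q) (hlt : N < Q) {g : G}
    (hco : (orderOf g).Coprime q) : g ∈ Subgroup.centralizer (N : Set G) := by
  have := hG.2 _ (sup_zpowers_ne_top_of_lt hQ hlt hco)
  exact mem_centralizer_of_normalizer_hasNormalPComplement (hQ.to_le hlt.le)
    (le_sup_left : N ≤ N ⊔ Subgroup.zpowers g) hasNormalPComplement_of_isNilpotent
    (Subgroup.mem_sup_right (Subgroup.mem_zpowers g)) (by rw [Subgroup.normalizer_eq_top]; trivial)
    hco

/-- In a minimal non-nilpotent group `G = Q⟨g⟩` one has `[Q, G] = Q`: no normal subgroup properly inside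
`Q` contains the commutators `[x, g]`, `x ∈ Q`. -/
theorem IsMinimalNonNilpotent.not_forall_commutator_mem (hG : IsMinimalNonNilpotent G) {q : ℕ}
    [hq : Fact q.Prime] {N Q : Subgroup G} [N.Normal] [Q.Normal] (hQ : IsPGroup q Q) (hlt : N < Q)
    {g : G} (hco : (orderOf g).Coprime q) (hg : g ∉ Subgroup.centralizer (Q : Set G)) :
    ¬ ∀ x ∈ Q, ⁅x, g⁆ ∈ N := fun h =>
  hg (mem_centralizer_of_commute_commutator hQ (by rw [Subgroup.normalizer_eq_top]; trivial) hco
    fun x hx => (IsMinimalNonNilpotent.mem_centralizer_of_lt hG hQ hlt hco _ (h x hx)).symm)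

/-- A normal Sylow subgroup `Q ≠ 1` of a minimal non-nilpotent group has a cyclic supplement of coprime
prime power order that does not centralise it. -/
theorem IsMinimalNonNilpotent.exists_of_normal_sylow (hG : IsMinimalNonNilpotent G) {q : ℕ}
    [hq : Fact q.Prime] (hqG : q ∣ Nat.card G) (Q : Sylow q G) [hQ : (Q : Subgroup G).Normal] :
    ∃ (r k : ℕ) (g : G), r.Prime ∧ r ≠ q ∧ orderOf g = r ^ k ∧
      (Q : Subgroup G) ⊔ Subgroup.zpowers g = ⊤ ∧ g ∉ Subgroup.centralizer (Q : Set G) := by
  obtain ⟨p, hp, P, r, k, g, hr, hrp, hg, hn, htop, hgC⟩ :=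
    IsMinimalNonNilpotent.exists_structure hG
  by_cases hpq : q = p
  · subst hpq
    have := Q.unique_of_normal hQ
    obtain rfl := Subsingleton.elim P Q
    exact ⟨r, k, g, hr, hrp, hg, htop, hgC⟩
  exfalso
  obtain ⟨l, hl⟩ := IsPGroup.iff_card.1 P.2
  have h1 : Nat.card G ∣ p ^ l * r ^ k := by
    rw [← hl, ← hg, ← Nat.card_zpowers, ← (P : Subgroup G).card_mul_index]
    exact Nat.mul_dvd_mul_left _ (index_dvd_card_of_sup_eq_top htop)
  obtain rfl : q = r := by
    rcases (Nat.Prime.dvd_mul hq.out).1 (hqG.trans h1) with h | h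
    · exact absurd ((Nat.prime_dvd_prime_iff_eq hq.out hp.out).1 (hq.out.dvd_of_dvd_pow h)) hpq
    · exact (Nat.prime_dvd_prime_iff_eq hq.out hr).1 (hq.out.dvd_of_dvd_pow h)
  have hA : IsPGroup q (Subgroup.zpowers g) := IsPGroup.of_card (by rw [Nat.card_zpowers, hg])
  obtain ⟨R, hR⟩ := hA.exists_le_sylow
  have := Q.unique_of_normal hQ
  have hgQ : g ∈ Q := Subsingleton.elim R Q ▸ hR (Subgroup.mem_zpowers g)
  exact hgC fun x hx => Subgroup.commute_of_normal_of_disjoint (P : Subgroup G) (Q : Subgroup G) hn hQ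
    (IsPGroup.disjoint_of_ne p q (Ne.symm hpq) _ _ P.2 Q.2) x g hx hgQ

/-- A finite group all of whose proper subgroups are abelian has an abelian normal maximal subgroup
(or is trivial). -/
theorem exists_isCoatom_normal_of_isSolvable (G : Type*) [Group G] [Finite G] [Nontrivial G]
    [Group.IsSolvable G] : ∃ M : Subgroup G, IsCoatom M ∧ M.Normal ∧ commutator G ≤ M := by
  obtain ⟨M, hM, hle⟩ := (eq_top_or_exists_le_coatom (commutator G)).resolve_left
    (Group.IsSolvable.commutator_lt_top_of_nontrivial G).ne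
  refine ⟨M, hM, ⟨fun x hx g => ?_⟩, hle⟩
  have := M.mul_mem (hle (comm_mem_commutator g x)) hx
  simpa [commutatorElement_def] using this

omit [Finite G] in
/-- A group with a central maximal subgroup is abelian. -/
theorem isMulCommutative_of_isCoatom_le_center {M : Subgroup G} (hM : IsCoatom M)
    (h : M ≤ Subgroup.center G) : IsMulCommutative G := by
  have hz : Subgroup.center G = ⊤ := by
    by_contra hne
    have h1 : Subgroup.center G = M := by
      by_contra h2
      exact hne (hM.2 _ (lt_of_le_of_ne h (Ne.symm h2)))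
    obtain ⟨g, -, hg⟩ := SetLike.exists_of_lt hM.1.lt_top
    have h3 : M < Subgroup.centralizer {g} :=
      lt_of_le_of_ne (h.trans (Subgroup.center_le_centralizer _)) fun e =>
        hg (e ▸ Subgroup.mem_centralizer_singleton_iff.2 rfl)
    apply hg
    rw [← h1, Subgroup.mem_center_iff]
    exact fun x => Subgroup.mem_centralizer_singleton_iff.1 ((hM.2 _ h3).ge (Subgroup.mem_top x))
  exact ⟨⟨fun x y => Subgroup.mem_center_iff.1 (hz ▸ Subgroup.mem_top y) x⟩⟩

end CL.Grp
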