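/-
Glauberman's Theorem C: if `Z(J(S))` does not control strong fusion (`p` odd), then its normalizer contains
the configuration `FpCfg`.
-/
import Cfsg.Agent.Grp.FpKey
import Cfsg.Agent.Grp.JaWeak
import Cfsg.Agent.Grp.ZJ2
import Cfsg.Agent.Loc.FusChain

set_option autoImplicit false

open Cfsg Subgroup CL.Loc CL.Even
open scoped commutatorElement

namespace CL.Grp

variable {G : Type*} [Group G] {p a : ℕ} [Finite G] [hp : Fact p.Prime]

/-- the argument of the `ZJ`-theorem, without stability -/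
theorem zj_inf_normal_of_quad (hp2 : p ≠ 2) (P : Sylow p G)
    (hst : ∀ B : Subgroup G, B.Normal → IsPGroup p B →
      ¬ (centerThompsonOf 0 (P : Subgroup G) ⊓ B).Normal →
      ∀ z ∈ (P : Subgroup G), ⁅⁅B, zpowers z⁆, zpowers z⁆ = ⊥ → z ∈ pCore p G)
    (B : Subgroup G) (hBn : B.Normal) (hB : IsPGroup p B) :
    (centerThompsonOf 0 (P : Subgroup G) ⊓ B).Normal := by
  induction B using WellFoundedLT.induction with
  | ind B ih =>
  set Z := centerThompsonOf 0 (P : Subgroup G) with hZ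
  by_contra hne
  have hBP : B ≤ P := hB.le_sylow_of_normal P
  have hPZ : (P : Subgroup G) ≤ 𝒩(Z) :=
    le_normalizer.trans (normalizer_le_normalizer_centerThompsonOf 0 _)
  have hB1 : normalClosure ((Z ⊓ B : Subgroup G) : Set G) ≤ B := normalClosure_le_normal inf_le_right
  rcases hB1.lt_or_eq with hlt | hBeq
  · have := ih _ hlt inferInstance (hB.to_le hB1)
    exact hne (by rwa [show Z ⊓ normalClosure ((Z ⊓ B : Subgroup G) : Set G) = Z ⊓ B from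
      le_antisymm (inf_le_inf_left Z hB1) (le_inf inf_le_left le_normalClosure)] at this)
  have hB0 : B ≠ ⊥ := fun e => hne (by rw [e, inf_bot_eq]; infer_instance)
  have hBZ : ⁅B, B⁆ ≤ Z := by
    have := ih _ (commutator_self_lt_of_isPGroup hB hB0) inferInstance (hB.to_le (commutator_le_self B))
    have h1 : ⁅Z ⊓ B, B⁆ ≤ Z ⊓ ⁅B, B⁆ :=
      le_inf ((commutator_mono inf_le_left le_rfl).trans (commutator_le_of_le_norm (hBP.trans hPZ)))
        (commutator_mono inf_le_right le_rfl)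
    have h2 := commutator_normalClosure_le h1
    rw [hBeq] at h2
    exact h2.trans inf_le_left
  set L := (𝒩(Z ⊓ B)).normalCore with hL
  have hLN : L ≤ 𝒩(Z ⊓ B) := normalCore_le _
  have hU : ∀ U : Subgroup G, U ≤ P → IsMulCommutative U → B ≤ 𝒩(U) → U ≤ L := fun U hUP hU hn z hz => by
    have : pCore p G ≤ L := normal_le_normalCore.2
      ((pCore_le_sylow P).trans (le_norm_inf hPZ le_normalizer_of_normal))
    refine this (hst B hBn hB hne z (hUP hz) (eq_bot_iff.2 ?_))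
    rw [← commutator_commutator_eq_bot_of_le_normalizer hU hn]
    exact commutator_mono (commutator_mono le_rfl (zpowers_le.2 hz)) (zpowers_le.2 hz)
  have hfr : ∀ g : G, ∃ l ∈ L, l * g ∈ 𝒩(thompsonSubgroupOf 0 ((P : Subgroup G) ⊓ L)) := fun g => by
    obtain ⟨l, hl, h⟩ := (isSylowIn_inf_normal P L).frattini (H := ⊤) le_normalizer_of_normal (mem_top g)
    exact ⟨l, hl, normalizer_le_normalizer_thompsonSubgroupOf _ h⟩
  by_cases hJ : thompsonSubgroupOf 0 (P : Subgroup G) ≤ L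
  · refine hne (normalizer_eq_top_iff.1 (eq_top_iff.2 fun g _ => ?_))
    obtain ⟨l, hl, h⟩ := hfr g
    rw [thompsonSubgroupOf_eq_of_le (le_inf (thompsonSubgroupOf_le _) hJ) inf_le_left] at h
    have h1 : l * g ∈ 𝒩(Z ⊓ B) :=
      le_norm_inf (normalizer_le_normalizer_inf_centralizer _) le_normalizer_of_normal h
    simpa using mul_mem (inv_mem (hLN hl)) h1
  obtain ⟨U, A, hUP, hUc, hUL, hA, hAL, hAU⟩ := exists_meaIn_le_normalizer (Or.inr rfl)
    P.isPGroup' le_rfl le_normalizer hBP le_normalizer_of_normal (fun e => absurd e hp2) le_rfl hBZ hU hJ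
  have hA' : A ≤ (P : Subgroup G) ⊓ L := le_inf hA.1 hAL
  have hBC : B ≤ 𝒞(thompsonSubgroupOf 0 ((P : Subgroup G) ⊓ L)) := by
    rw [← hBeq]
    refine normalClosure_le_of_conj fun x hx g => ?_
    obtain ⟨l, hl, h⟩ := hfr g⁻¹
    have h1 : l * x * l⁻¹ ∈ 𝒞(thompsonSubgroupOf 0 ((P : Subgroup G) ⊓ L)) :=
      cent_mono (thompsonSubgroupOf_mono_of_mem hA hA' inf_le_left) (conj_mem (hLN hl) hx).1.2
    simpa [mul_assoc] using conj_mem' (le_norm_cent le_rfl h) h1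
  exact hUL (hU U hUP hUc (le_trans (fun x hx => mem_of_mem_meaIn_of_centralizer hA (hBP hx) (pow_zero x)
    (cent_mono (le_thompsonSubgroupOf (mem_meaIn_of_le hA hA' inf_le_left)) (hBC hx))) hAU))

theorem exists_fpCfg_of_zj (hp2 : p ≠ 2) (ha : (a : ZMod p) ≠ 0) {S K : Subgroup G}
    (hS : IsSylowIn p S K) (hU : UMax S (K ⊓ 𝒩(centerThompsonOf 0 S)) K)
    (hZ : centerThompsonOf 0 S ≤ pCoreOf p K) :
    ∃ R h, R ≤ S ∧ h ∈ 𝒩(centerThompsonOf 0 S) ∧ FpCfg p a R (centerThompsonOf 0 S) h := by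
  set Z := centerThompsonOf 0 S with hZd
  have hZK : Z ≤ K := hZ.trans (core_le K)
  have e : centerThompsonOf 0 (hS.toSylow : Subgroup K) = Z.subgroupOf K :=
    map_injective K.subtype_injective (by
      rw [map_centerThompsonOf (inf_ker_eq_bot_of_injective _ K.subtype_injective), hS.map_toSylow,
        map_subgroupOf_eq_of_le hZK])
  have h1 := mt (fun h => zj_inf_normal_of_quad hp2 hS.toSylow h (pCore p K) inferInstance pCore_isP) (by
    rw [e, ← subgroupOf_core, inf_of_le_left (subgroupOf_mono K hZ),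
      normal_subgroupOf_iff_le_normalizer hZK]
    exact fun h => hU.not_le (le_inf le_rfl h))
  push Not at h1
  obtain ⟨B, hBn, hB, hne, z, hz, hq, hzO⟩ := h1
  have hBK : K ≤ 𝒩(B.map K.subtype) := by
    refine le_trans ?_ (le_normalizer_map _)
    rw [normalizer_eq_top, map_subtype_top]
  have hSZ : S ≤ 𝒩(Z) := hU.le.trans inf_le_right
  have hN : ¬ K ≤ 𝒩(Z ⊓ B.map K.subtype) := fun h => hne (by
    rw [← normal_subgroupOf_iff_le_normalizer (inf_le_left.trans hZK), subgroupOf, comap_inf,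
      comap_map_eq_self_of_injective K.subtype_injective] at h
    rwa [e])
  obtain ⟨R, h, hR, hh, -, H⟩ := exists_fpCfg_of_quad hp2 ha hU hS (B := B.map K.subtype)
    (Y := Z ⊓ B.map K.subtype) (map_mono (le_pCore_of hBn hB)) hBK inf_le_right
    (le_norm_inf inf_le_right (inf_le_left.trans hBK))
    ((inf_le_inf_left K (cent_le_norm _)).trans
      (hU.inf_norm_le (le_norm_inf hSZ (hS.le.trans hBK)) hN)) (z := z) hz
    (fun h => hzO (subgroupOf_core (p := p) K ▸ h))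
    (by rw [← coe_subtype, ← MonoidHom.map_zpowers, ← map_commutator, ← map_commutator, hq,
      Subgroup.map_bot])
  exact ⟨R, h, hR, hh.2, H.mono inf_le_left⟩

/-- the pushing-up case: `P` is not Sylow in the normalizer of `Z` -/
theorem exists_fpCfg_of_pushup (hp2 : p ≠ 2) (ha : (a : ZMod p) ≠ 0) {P P₁ M K R₀ Z : Subgroup G}
    (hU : UMax P M K) (hP : IsSylowIn p P K) (hP₁ : IsPGroup p P₁) (hPP : P ≤ P₁) (hn : P₁ ≤ 𝒩(P))
    (hZ : Z ≤ pCoreOf p K) (hMZ : M ≤ 𝒩(Z)) (hPZ : P₁ ≤ 𝒩(Z)) (hR : R₀ ≤ P) (hKR : K ≤ 𝒩(R₀))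
    (hPR : P₁ ≤ 𝒩(R₀)) (hZR : ¬ Z ≤ R₀)
    (hmax : ∀ X, R₀ ≤ X → X ≤ P → K ≤ 𝒩(X) → P₁ ≤ 𝒩(X) → X ≤ R₀) :
    ∃ R h, R ≤ P ∧ h ∈ M ∧ FpCfg p a R Z h := by
  let ψ := qmk R₀
  have hk : IsKer ψ R₀ := isKer_qmk R₀
  have hPN : P ≤ 𝒩(R₀) := hP.le.trans hKR
  have hMN : M ≤ 𝒩(R₀) := hU.le_top.trans hKR
  have hZP : Z ≤ P := hZ.trans (core_le_syl hP)
  have hZN : Z ≤ 𝒩(R₀) := hZP.trans hPN
  have hbot : ∀ X, X ≤ gim ψ P → gim ψ K ≤ 𝒩(X) → gim ψ P₁ ≤ 𝒩(X) → X = ⊥ := fun X h1 h2 h3 => by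
    have e : gim ψ (𝒩(R₀) ⊓ gpre ψ X) = X := gim_inf_gpre (h1.trans (gim_mono hPN))
    rw [← e, hk.gim_eq_bot inf_le_left]
    refine hmax _ (le_inf le_normalizer (hk.le_gpre' X)) ?_
      (le_norm_inf_gpre le_rfl (le_norm_of_le hKR) hKR h2)
      (le_norm_inf_gpre le_rfl (le_norm_of_le hPR) hPR h3)
    rw [← sup_of_le_left hR, ← hk.gim_le inf_le_left hPN, e]
    exact h1
  have hU' : UMax (gim ψ P) (gim ψ M) (gim ψ K) := UMax.map (by
    rw [← umax_map_iff (𝒩(R₀)).subtype_injective, map_subgroupOf_eq_of_le hPN,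
      map_subgroupOf_eq_of_le hMN, map_subgroupOf_eq_of_le hKR]
    exact hU) ψ (inf_le_left.trans (hk.ker_eq.le.trans (comap_mono (hR.trans hU.le))))
  have hP' := gim_syl (ψ := ψ) hKR hP
  have hZ0 : gim ψ Z ≠ ⊥ := fun e => hZR ((hk.gim_eq_bot hZN).1 e)
  have hn' : gim ψ P₁ ≤ 𝒩(gim ψ P) := gim_le_norm hPR hPN hn
  obtain ⟨z, hz, hzO, hq⟩ := exists_quadratic_of_not_le_normalizer_thompsonA hP' fun h =>
    thompsonSubgroupOf_ne_bot' (Or.inr rfl) hP'.isPGroup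
      (fun e => hZ0 (eq_bot_iff.2 (e ▸ gim_mono hZP)))
      (hbot _ (thompsonSubgroupOf_le _) h (hn'.trans (normalizer_le_normalizer_thompsonSubgroupOf _)))
  obtain ⟨⟨y, hy⟩, hy1⟩ := ne_bot_iff_exists_ne_one.1 (inf_cent_ne_bot
    (gim_isPGroup (ψ := ψ) (hP.isPGroup.to_le hZP)) (gim_isPGroup hP₁) (gim_le_norm hPR hZN hPZ) hZ0)
  have hZO : gim ψ Z ≤ pCoreOf p (gim ψ K) := (gim_mono hZ).trans (le_core (gim_mono (core_le K))
    (gim_isPGroup (core_isP K)) (gim_le_norm hKR ((core_le K).trans hKR) (self_le_norm_core K)))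
  have hyP : y ∈ 𝒞(gim ψ P) := cent_mono (gim_mono hPP) hy.2
  have hO := self_le_norm_core (p := p) (gim ψ K)
  obtain ⟨R, _, hR', ⟨h, hh, rfl⟩, -, H⟩ := exists_fpCfg_of_quad hp2 ha hU' hP' inf_le_left
    (le_norm_inf hO (le_norm_cent hO))
    (Y := gim ψ Z ⊓ (pCoreOf p (gim ψ K) ⊓ 𝒞(pCoreOf p (gim ψ K)))) inf_le_right
    (le_norm_inf (gim_le_norm hMN hZN hMZ) (hU'.le_top.trans (le_norm_inf hO (le_norm_cent hO))))
    ((inf_le_inf_left _ ((cent_mono (zpowers_le.2 (mem_inf.2 ⟨hy.1, mem_inf.2 ⟨hZO hy.1,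
      cent_mono (core_le_syl hP') hyP⟩⟩))).trans
      (cent_le_norm (zpowers y)))).trans (hU'.inf_norm_le
        ((le_centralizer_iff.1 (zpowers_le.2 hyP)).trans (cent_le_norm _)) fun h => hy1 (Subtype.ext
          (zpowers_eq_bot.1 (hbot _ (zpowers_le.2 (gim_mono hZP hy.1)) h
            ((le_centralizer_iff.1 (zpowers_le.2 hy.2)).trans (cent_le_norm _)))))))
    hz hzO hq
  have H1 := ((H.mono inf_le_left).comap (QuotientGroup.mk'_surjective _) (by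
    rw [hk.ker_eq]; exact (hP.isPGroup.to_le hR).comap_subtype)).map (𝒩(R₀)).subtype_injective
  rw [map_subgroupOf_eq_of_le hZN] at H1
  refine ⟨_, _, ?_, hh, H1⟩
  rw [← sup_of_le_left hR, ← hk.gpre_gim hPN]
  exact gpre_mono hR'

/-- the case of an extremal subgroup not containing `Z` -/
theorem exists_fpCfg_of_not_le (hp2 : p ≠ 2) (ha : (a : ZMod p) ≠ 0) {S Z U : Subgroup G}
    (hS : IsPGroup p S) (hZ : Z ≤ S) (hSZ : S ≤ 𝒩(Z)) (hZc : Z ≤ 𝒞(Z)) (hU : IsExtremalIn p S U)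
    (ih : ∀ T, T ≤ S → U < T → ∀ g : G, cj g T ≤ S → ActsAs 𝒩(Z) T g) {x : G} (hx : x ∈ 𝒩(U))
    (hx' : ¬ ActsAs 𝒩(Z) U x) (hZU : ¬ Z ≤ U) :
    ∃ R h, R ≤ S ∧ h ∈ 𝒩(Z) ∧ FpCfg p a R Z h := by
  let X := (fusRel_actsAs 𝒩(Z)).stab U (actsAs_of_mem (one_mem _))
  obtain ⟨K, hK, hKX, hM⟩ := exists_umax_of_not_le (inf_le_right : S ⊓ 𝒩(U) ≤ _) (X := X)
    (fun g hg => ⟨hg.2, actsAs_of_mem (hSZ hg.1)⟩) fun h => hx' (h hx).2
  have hP : IsSylowIn p (S ⊓ 𝒩(U)) K := hU.2.of_le hM.le_self hK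
  have hUP : U ≤ S ⊓ 𝒩(U) := le_inf hU.1 le_normalizer
  have hO : pCoreOf p K = U := by
    refine ((le_core (hUP.trans hP.le) (hS.to_le hU.1) hK).eq_or_lt.resolve_right fun h => hKX ?_).symm
    have h1 := (core_le_syl hP).trans inf_le_left
    exact fun g hg => ⟨hK hg, (fusRel_actsAs _).mono h.le
      (ih _ h1 h g ((cj_eq (self_le_norm_core K hg)).le.trans h1))⟩
  obtain ⟨y, ⟨hy, hyN⟩, hyU⟩ := SetLike.not_le_iff_exists.1 (lt_inf_normalizer_of_isPGroup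
    (hS.to_le (sup_le hU.1 hZ)) (left_lt_sup.2 hZU)).not_ge
  obtain ⟨u, hu, z, hz, rfl⟩ := (mem_sup_nr (hU.1.trans hSZ)).1 hy
  have zN : z ∈ 𝒩(U) := by simpa using mul_mem (inv_mem (le_normalizer hu)) hyN
  have zU : z ∉ pCoreOf p K := fun h => hyU (mul_mem hu (hO ▸ h))
  have hUz : ⁅U, zpowers z⁆ ≤ Z ⊓ U := le_inf ((commutator_mono hU.1 (zpowers_le.2 hz)).trans
    (commutator_le_of_le_norm' hSZ)) (commutator_le_of_le_norm (zpowers_le.2 zN))
  have hMY : K ⊓ X ≤ 𝒩(Z ⊓ U) := fun g hg => mem_normalizer_fintype fun y hy => by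
    obtain ⟨h, hh, e⟩ := hg.2.2
    exact ⟨e y hy.2 ▸ conj_mem hh hy.1, conj_mem hg.2.1 hy.2⟩
  obtain ⟨R, h, hR, hh, hOR, H⟩ := exists_fpCfg_of_quad hp2 ha hM hP (B := U) (Y := Z ⊓ U) hO.ge hK
    inf_le_right hMY (by
      by_contra hC
      have hPY : S ⊓ 𝒩(U) ≤ 𝒩(Z ⊓ U) := hM.le.trans hMY
      have hKY : K ≤ 𝒩(Z ⊓ U) := (hM.sup_eq inf_le_left hC).ge.trans
        (sup_le hPY (inf_le_right.trans (cent_le_norm _)))
      have h1 := hM.res_le hP inf_le_left (le_norm_inf le_normalizer (le_norm_cent hKY)) hC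
      have hn2 : K ≤ 𝒩(K ⊓ cmod U (Z ⊓ U)) := le_norm_inf le_normalizer (le_norm_cmod hK hKY)
      have zP : z ∈ S ⊓ 𝒩(U) := ⟨hZ hz, zN⟩
      have h2 := hM.res_le hP inf_le_left hn2 fun h =>
        zU ((hM.pClo_of_le hP hn2 h).le_core_of_normal inf_le_left hn2
          (le_inf (zpowers_le.2 (hP.le zP)) (le_cmod (zpowers_le.2 (hPY zP)) hUz))
          (hP.isPGroup.to_le (zpowers_le.2 zP)) (mem_zpowers z))
      have h3 := res_le_cent (hS.to_le (inf_le_left.trans hZ))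
        (commutator_le_of_le_cmod (h2.trans inf_le_right)) (h1.trans inf_le_right)
      exact hKX (le_of_syl_of_res hP (hM.le.trans inf_le_right) fun g hg =>
        ⟨cent_le_norm _ (h3 hg), actsAs_of_mem_centralizer (h3 hg)⟩))
    (z := z) ⟨hZ hz, zN⟩ zU (commutator_eq_bot_iff_le_centralizer.2 ((hUz.trans inf_le_left).trans
      (hZc.trans (cent_mono (zpowers_le.2 hz)))))
  have hRS := hR.trans inf_le_left
  obtain ⟨h', hh', e⟩ := ih R hRS (hO ▸ hOR) h ((cj_eq H.2.1).le.trans hRS)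
  exact ⟨R, h', hRS, hh', (H.congr e).mono inf_le_left⟩

/-- If the normalizer of the abelian normal subgroup `Z` of `S` does not control strong fusion, then either
it contains the configuration `FpCfg`, or `Z ≤ O_p(K)` is not normal in some `K ≥ S`. -/
theorem exists_fpCfg_or_umax (hp2 : p ≠ 2) (ha : (a : ZMod p) ≠ 0) {S Z : Subgroup G}
    (hS : IsSylowIn p S ⊤) (hZ : Z ≤ S) (hSZ : S ≤ 𝒩(Z)) (hZc : Z ≤ 𝒞(Z)) (h : ¬ CtlFus 𝒩(Z) S ⊤) :
    (∃ R h, R ≤ S ∧ h ∈ 𝒩(Z) ∧ FpCfg p a R Z h) ∨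
      ∃ K, UMax S (K ⊓ 𝒩(Z)) K ∧ Z ≤ pCoreOf p K := by
  by_contra hc
  rw [not_or] at hc
  refine h fun A hA g _ hg => (fusRel_actsAs 𝒩(Z)).alperin hS (IsExtremalIn p S) (fun _ => True)
    (fun _ h => h) (fun _ _ _ _ => trivial) (fun _ _ _ => trivial)
    (fun _ hT _ => (exists_extremal_conj hS hT).imp fun _ h => h.1) (fun U hU _ ih x hx => ?_)
    A hA trivial g hg
  by_contra hx'
  by_cases hZU : Z ≤ U
  swap
  · exact hc.1 (exists_fpCfg_of_not_le hp2 ha hS.isPGroup hZ hSZ hZc hU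
      (fun T hT hUT => ih T hT trivial (card_lt_card_of_lt hUT)) hx hx' hZU)
  obtain ⟨T, ⟨hZT, hTS, hTH⟩, hmax⟩ := (Set.toFinite {T : Subgroup G | Z ≤ T ∧ T ≤ S ∧
    ¬ 𝒩(T) ≤ 𝒩(Z)}).exists_maximalFor (fun T => Nat.card (S ⊓ 𝒩(T) : Subgroup G)) _
    ⟨U, hZU, hU.1, fun h => hx' (actsAs_of_mem (h hx))⟩
  have hmax' : ∀ T', Z ≤ T' → T' ≤ S → Nat.card (S ⊓ 𝒩(T) : Subgroup G) <
      Nat.card (S ⊓ 𝒩(T') : Subgroup G) → 𝒩(T') ≤ 𝒩(Z) := fun T' h1 h2 h3 => by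
    by_contra h4
    exact h3.not_ge (hmax ⟨h1, h2, h4⟩ h3.le)
  set P := S ⊓ 𝒩(T) with hPd
  have hTP : T ≤ P := le_inf hTS le_normalizer
  have hPS : P ≤ S := inf_le_left
  have hlt : P ≠ S → P < S ⊓ 𝒩(P) := fun h =>
    lt_inf_normalizer_of_isPGroup hS.isPGroup (lt_of_le_of_ne hPS h)
  have hP : IsSylowIn p P 𝒩(T) := isSylowIn_of_maximal inf_le_right (hS.isPGroup.to_le hPS)
    fun Q hQ hPQ hQT => by
      by_cases e : P = S
      · exact e ▸ hS.eq_of_le hQ (e ▸ hPQ) le_top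
      by_contra hne
      have h1 := lt_inf_normalizer_of_isPGroup hQ (lt_of_le_of_ne hPQ (Ne.symm hne))
      obtain ⟨g, hg, h2⟩ := syl_conj_le (hS.of_le hSZ le_top) hQ.to_inf_left
        (inf_le_right.trans (hmax' P (hZT.trans hTP) hPS (card_lt_card_of_lt (hlt e))))
      refine hTH (cj_le_cj.1 ((cj_norm g T).le.trans ((hmax' _ ((cj_eq hg).ge.trans (cj_mono g hZT))
        ((cj_mono g (hTP.trans h1.le)).trans h2) ?_).trans (cj_eq (le_normalizer hg)).ge)))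
      refine (card_lt_card_of_lt h1).trans_le ((card_cj g _).ge.trans (card_le_of_le (le_inf h2 ?_)))
      rw [← cj_norm]
      exact cj_mono g (inf_le_left.trans hQT)
  obtain ⟨K, hK, hKH, hM⟩ := exists_umax_of_not_le hP.le (hPS.trans hSZ) hTH
  have hPK := hP.of_le hM.le_self hK
  have hZO : Z ≤ pCoreOf p K := hZT.trans (le_core (hTP.trans hPK.le) (hS.isPGroup.to_le hTS) hK)
  by_cases e : P = S
  · exact hc.2 ⟨K, e ▸ hM, hZO⟩
  obtain ⟨R₀, ⟨h1, h2, h3⟩, hR₀⟩ := (Set.toFinite {X : Subgroup G | X ≤ P ∧ K ≤ 𝒩(X) ∧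
    S ⊓ 𝒩(P) ≤ 𝒩(X)}).exists_maximal ⟨⊥, bot_le, le_normalizer_of_normal, le_normalizer_of_normal⟩
  obtain ⟨R, h, hR, hh, H⟩ := exists_fpCfg_of_pushup hp2 ha hM hPK hS.isPGroup.to_inf_left (hlt e).le
    inf_le_right hZO inf_le_right (inf_le_left.trans hSZ) h1 h2 h3
    (fun hZR => hKH (h2.trans (hmax' R₀ hZR (h1.trans hPS)
      ((card_lt_card_of_lt (hlt e)).trans_le (card_le_of_le (le_inf inf_le_left h3))))))
    fun X a b c d => hR₀ ⟨b, c, d⟩ a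
  exact hc.1 ⟨R, h, hR.trans hPS, hh.2, H⟩

theorem exists_fpCfg_of_not_ctlFus (hp2 : p ≠ 2) (ha : (a : ZMod p) ≠ 0) {S : Subgroup G}
    (hS : IsSylowIn p S ⊤) (h : ¬ CtlFus 𝒩(centerThompsonOf 0 S) S ⊤) :
    ∃ R h, R ≤ S ∧ h ∈ 𝒩(centerThompsonOf 0 S) ∧ FpCfg p a R (centerThompsonOf 0 S) h :=
  (exists_fpCfg_or_umax hp2 ha hS (centerThompsonOf_le S)
    (le_normalizer.trans (normalizer_le_normalizer_centerThompsonOf 0 S))
    (centerThompsonOf_le_centralizer S) h).elim id fun ⟨_, h1, h2⟩ =>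
      exists_fpCfg_of_zj hp2 ha (hS.of_le h1.le_self le_top) h1 h2

omit [Finite G] in
theorem exists_primitive_natCast :
    ∃ a : ℕ, ∀ x : ZMod p, x ≠ 0 → ∃ k : ℕ, (a : ZMod p) ^ k = x := by
  obtain ⟨g, hg⟩ := IsCyclic.exists_monoid_generator (α := (ZMod p)ˣ)
  refine ⟨(g : ZMod p).val, fun x hx => ?_⟩
  obtain ⟨k, hk⟩ := hg (Units.mk0 x hx)
  exact ⟨k, by rw [ZMod.natCast_zmod_val, ← Units.val_pow_eq_pow_val, show g ^ k = _ from hk]; rfl⟩

/-- **Glauberman's Theorem C** -/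
theorem zj_ctlFus_of_not_involves_fOver (hp2 : p ≠ 2) {S : Subgroup G} (hS : IsSylowIn p S ⊤)
    (h : ¬ Involves (fOver (ZMod p)) 𝒩(centerThompsonOf 0 S)) :
    CtlFus 𝒩(centerThompsonOf 0 S) S ⊤ := by
  by_contra hc
  obtain ⟨a, ha⟩ := exists_primitive_natCast (p := p)
  obtain ⟨R, g, hR, hg, H⟩ := exists_fpCfg_of_not_ctlFus hp2 (natCast_ne_zero_of_primitive hp2 ha) hS hc
  exact h (H.involves hp2 ha
    (hR.trans (le_normalizer.trans (normalizer_le_normalizer_centerThompsonOf 0 S))) hg)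

end CL.Grp
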